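import Groth.Prelude.Def_W4bk4goldsch45
import Mathlib.Data.Set.Card

/-!
# Gap numbers at a place
-/

set_option autoImplicit false
open WithZero

namespace K663.Gaps

variable {k K : Type*} [Field k] [Field K] [Algebra k K]

theorem mem_L {D : FunFld.Divisor k K} {x : K} :
    x ∈ FunFld.L D ↔ ∀ P : FunFld.Place k K, P.1 x ≤ exp (D P) := Iff.rfl

theorem L_mono {D E : FunFld.Divisor k K} (h : D ≤ E) : FunFld.L D ≤ FunFld.L E := by
  intro x hx P
  exact (hx P).trans (exp_le_exp.2 (h P))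

theorem single_le_single (P : FunFld.Place k K) {m n : ℤ} (h : m ≤ n) :
    (Finsupp.single P m : FunFld.Divisor k K) ≤ Finsupp.single P n := by
  classical
  intro Q
  rw [Finsupp.single_apply, Finsupp.single_apply]
  split_ifs
  · exact h
  · exact le_rfl

theorem mem_L_single {P : FunFld.Place k K} {n : ℤ} {x : K} :
    x ∈ FunFld.L (Finsupp.single P n) ↔ P.1 x ≤ exp n ∧ ∀ Q : FunFld.Place k K, Q ≠ P → Q.1 x ≤ 1 := by
  classical
  rw [mem_L]
  constructor
  · intro h
    refine ⟨by simpa using h P, fun Q hQ => ?_⟩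
    have := h Q
    rwa [Finsupp.single_apply, if_neg (Ne.symm hQ), exp_zero] at this
  · rintro ⟨h1, h2⟩ Q
    rw [Finsupp.single_apply]
    split_ifs with h
    · rw [← h]; exact h1
    · rw [exp_zero]; exact h2 Q (Ne.symm h)

/-- `n` is a pole number at `P`: some function has a pole of exact order `n` at `P` and no other pole. -/
def IsPoleNumber (P : FunFld.Place k K) (n : ℤ) : Prop :=
  ∃ x : K, P.1 x = exp n ∧ ∀ Q : FunFld.Place k K, Q ≠ P → Q.1 x ≤ 1

theorem isPoleNumber_iff (P : FunFld.Place k K) (n : ℤ) : IsPoleNumber P n ↔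
    FunFld.L (Finsupp.single P n) ≠ FunFld.L (Finsupp.single P (n - 1)) := by
  have hle : FunFld.L (Finsupp.single P (n - 1)) ≤ FunFld.L (Finsupp.single P n) :=
    L_mono (single_le_single P (by omega))
  constructor
  · rintro ⟨x, hx, hx'⟩ h
    have h1 : x ∈ FunFld.L (Finsupp.single P n) := mem_L_single.2 ⟨hx.le, hx'⟩
    rw [h, mem_L_single, hx, exp_le_exp] at h1
    omega
  · intro h
    have h1 : ¬ FunFld.L (Finsupp.single P n) ≤ FunFld.L (Finsupp.single P (n - 1)) :=
      fun h2 => h (le_antisymm h2 hle)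
    obtain ⟨x, hx, hx'⟩ := SetLike.not_le_iff_exists.1 h1
    rw [mem_L_single] at hx hx'
    refine ⟨x, ?_, hx.2⟩
    have h2 : ¬ P.1 x ≤ exp (n - 1) := fun h3 => hx' ⟨h3, hx.2⟩
    rw [not_le] at h2
    have h0 : P.1 x ≠ 0 := (lt_of_le_of_lt zero_le h2).ne'
    have h3 := hx.1
    rw [← exp_log h0] at h2 h3 ⊢
    rw [exp_lt_exp] at h2
    rw [exp_le_exp] at h3
    rw [exp_inj]
    omega

theorem gap_iff (P : FunFld.Place k K) (n : ℤ) : ¬ IsPoleNumber P n ↔
    FunFld.L (Finsupp.single P n) = FunFld.L (Finsupp.single P (n - 1)) := by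
  rw [isPoleNumber_iff, not_not]

theorem IsPoleNumber.add {P : FunFld.Place k K} {m n : ℤ} (hm : IsPoleNumber P m)
    (hn : IsPoleNumber P n) : IsPoleNumber P (m + n) := by
  obtain ⟨x, hx, hx'⟩ := hm
  obtain ⟨y, hy, hy'⟩ := hn
  refine ⟨x * y, by rw [map_mul, hx, hy, exp_add], fun Q hQ => ?_⟩
  rw [map_mul]
  exact mul_le_one' (hx' Q hQ) (hy' Q hQ)

/-- The gap numbers make up at least half of the positive integers below a gap number. -/
theorem half_gaps (P : FunFld.Place k K) (n : ℕ) (hgap : ¬ IsPoleNumber P n) :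
    n - 1 ≤ 2 * Set.ncard {m : ℕ | 1 ≤ m ∧ m < n ∧ ¬ IsPoleNumber P m} := by
  classical
  have hG : {m : ℕ | 1 ≤ m ∧ m < n ∧ ¬ IsPoleNumber P m} =
      ((Finset.Ico 1 n).filter fun m : ℕ => ¬ IsPoleNumber P m : Finset ℕ) := by
    ext m
    simp [and_assoc]
  rw [hG, Set.ncard_coe_finset]
  have h1 : ((Finset.Ico 1 n).filter fun m : ℕ => IsPoleNumber P m).card ≤
      ((Finset.Ico 1 n).filter fun m : ℕ => ¬ IsPoleNumber P m).card := by
    refine Finset.card_le_card_of_injOn (fun m => n - m) ?_ ?_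
    · intro m hm
      simp only [Finset.coe_filter, Finset.mem_Ico, Set.mem_ofPred_eq] at hm ⊢
      refine ⟨by omega, fun h2 => hgap ?_⟩
      have h3 := hm.2.add h2
      have h4 : (m : ℤ) + ((n - m : ℕ) : ℤ) = n := by omega
      rwa [h4] at h3
    · intro a ha b hb hab
      simp only [Finset.coe_filter, Finset.mem_Ico, Set.mem_ofPred_eq] at ha hb hab
      omega
  have h2 := Finset.card_filter_add_card_filter_not (s := Finset.Ico 1 n)
    (fun m : ℕ => IsPoleNumber P m)
  rw [Nat.card_Ico] at h2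
  omega

end K663.Gaps
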