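import Groth.Agent.FunFld.K660.Weil
import Groth.Agent.FunFld.K660.LowGenus
import Groth.Agent.FunFld.K663.Gaps
import Mathlib.FieldTheory.IsAlgClosed.Basic

/-!
# Function fields over algebraically closed fields: special divisors of small degree, gaps, automorphisms
-/

set_option autoImplicit false
open WithZero FunFld

namespace K663.AlgC

open K660.Ord K660.Places K660.Compare K660.Weil K660.LowGenus K663.Gaps

variable {k K : Type*} [Field k] [Field K] [Algebra k K]

theorem deg_single (P : Place k K) (n : ℤ) :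
    Divisor.deg (Finsupp.single P n : Divisor k K) = n * P.deg := by
  unfold Divisor.deg
  rw [Finsupp.sum_single_index (by rw [zero_mul])]

variable [IsAlgClosed k]

theorem bijective_residue (hK : IsFunctionField k K) (P : Place k K) :
    Function.Bijective (algebraMap k (IsLocalRing.ResidueField P.O)) := by
  have hfin := finite_residue hK P
  have hfin' : @Module.Finite k (IsLocalRing.ResidueField P.O) _ _ Algebra.toModule := hfin
  have hint : Algebra.IsIntegral k (IsLocalRing.ResidueField P.O) := Algebra.IsIntegral.of_finite _ _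
  exact IsAlgClosed.algebraMap_bijective_of_isIntegral

theorem place_deg_one (hK : IsFunctionField k K) (P : Place k K) : P.deg = 1 := by
  have h2 := (AlgEquiv.ofBijective (Algebra.ofId k (IsLocalRing.ResidueField P.O))
    (bijective_residue hK P)).toLinearEquiv.finrank_eq
  rw [Module.finrank_self] at h2
  exact h2.symm

/-- In positive genus `ℓ(P) ≤ 1`. -/
theorem ell_single_one (hK : IsFunctionField k K) (hg : 0 < genus k K) (P : Place k K) :
    ell (Finsupp.single P 1 : Divisor k K) ≤ 1 := by
  have hle : L (Finsupp.single P 1 : Divisor k K) ≤ L (0 : Divisor k K) := by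
    rw [L_zero hK]
    intro x hx
    by_contra hxc
    have h1 := genus_eq_zero_of_mem_L_single hK (place_deg_one hK P) hx (fun h => hxc (by
      obtain ⟨c, rfl⟩ := h
      exact Submodule.algebraMap_mem c))
    omega
  have := finite_L hK (0 : Divisor k K)
  have h2 := Submodule.finrank_mono hle
  have h3 := ell_zero hK
  unfold ell at h3 ⊢
  omega

/-- `S11044`. -/
theorem ell_sub_single_lt (hK : IsFunctionField k K) (hg : 0 < genus k K) (D : Divisor k K)
    (hD : 2 * (genus k K : ℤ) ≤ D.deg ∨ IsCanonical k K D) (P : Place k K) :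
    ell (D - Finsupp.single P 1) < ell D := by
  have hP : Divisor.deg (Finsupp.single P 1 : Divisor k K) = 1 := by
    rw [deg_single, place_deg_one hK]; norm_num
  rcases hD with hD | hD
  · have h1 := ell_eq_of_deg_ge hK (D := D) (by omega)
    have h2 := ell_eq_of_deg_ge hK (D := D - Finsupp.single P 1) (by rw [deg_sub, hP]; omega)
    rw [deg_sub, hP] at h2
    omega
  · obtain ⟨h1, h2⟩ := deg_ell_of_isCanonical hK hD
    have h3 := riemann_roch hK hD (D - Finsupp.single P 1)
    rw [deg_sub, hP, sub_sub_cancel] at h3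
    have h4 := ell_single_one hK hg P
    omega

section Clifford

theorem ell_single_succ_le (hK : IsFunctionField k K) (P : Place k K) (n : ℤ) :
    ell (Finsupp.single P n : Divisor k K) ≤ ell (Finsupp.single P (n - 1) : Divisor k K) + 1 := by
  obtain ⟨W, hW⟩ := exists_isCanonical hK
  have h1 := riemann_roch hK hW (Finsupp.single P n : Divisor k K)
  have h2 := riemann_roch hK hW (Finsupp.single P (n - 1) : Divisor k K)
  rw [deg_single, place_deg_one hK] at h1 h2
  have h3 : ell (W - Finsupp.single P n) ≤ ell (W - Finsupp.single P (n - 1)) := by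
    have := finite_L hK (W - Finsupp.single P (n - 1))
    apply Submodule.finrank_mono
    apply Gaps.L_mono
    exact sub_le_sub_left (single_le_single P (by omega)) W
  push_cast at h1 h2
  omega

theorem ell_single_pole (hK : IsFunctionField k K) (P : Place k K) (n : ℤ)
    (h : IsPoleNumber P n) :
    ell (Finsupp.single P n : Divisor k K) = ell (Finsupp.single P (n - 1) : Divisor k K) + 1 := by
  apply le_antisymm (ell_single_succ_le hK P n)
  rw [isPoleNumber_iff] at h
  have := finite_L hK (Finsupp.single P n : Divisor k K)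
  have hle : L (Finsupp.single P (n - 1) : Divisor k K) ≤ L (Finsupp.single P n) :=
    Gaps.L_mono (single_le_single P (by omega))
  exact Nat.succ_le_of_lt (Submodule.finrank_lt_finrank_of_lt (lt_of_le_of_ne hle (Ne.symm h)))

omit [IsAlgClosed k] in
theorem ell_single_gap (P : Place k K) (n : ℤ) (h : ¬ IsPoleNumber P n) :
    ell (Finsupp.single P n : Divisor k K) = ell (Finsupp.single P (n - 1) : Divisor k K) := by
  rw [gap_iff] at h
  unfold ell
  rw [h]

open scoped Classical in
/-- `ℓ(nP) = 1 + #(pole numbers in [1, n])`. -/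
theorem ell_single_eq (hK : IsFunctionField k K) (P : Place k K) (n : ℕ) :
    ell (Finsupp.single P (n : ℤ) : Divisor k K) =
      1 + ((Finset.Ico 1 (n + 1)).filter fun m : ℕ => IsPoleNumber P m).card := by
  classical
  induction n with
  | zero =>
    simp [ell_zero hK]
  | succ n ih =>
    have h1 : ((n + 1 : ℕ) : ℤ) - 1 = n := by push_cast; ring
    rw [Nat.Ico_succ_right_eq_insert_Ico (show 1 ≤ n + 1 by omega), Finset.filter_insert]
    by_cases h : IsPoleNumber P ((n + 1 : ℕ) : ℤ)
    · rw [if_pos h, Finset.card_insert_of_notMem (by simp), ell_single_pole hK P _ h, h1, ih]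
      ring
    · rw [if_neg h, ell_single_gap P _ h, h1, ih]

theorem two_mul_ell_le_of_gap (hK : IsFunctionField k K) (P : Place k K) (n : ℕ)
    (hgap : ¬ IsPoleNumber P ((n + 1 : ℕ) : ℤ)) :
    2 * ell (Finsupp.single P (n : ℤ) : Divisor k K) ≤ n + 2 := by
  classical
  have h1 := half_gaps P (n + 1) hgap
  have hG : {m : ℕ | 1 ≤ m ∧ m < n + 1 ∧ ¬ IsPoleNumber P m} =
      ((Finset.Ico 1 (n + 1)).filter fun m : ℕ => ¬ IsPoleNumber P m : Finset ℕ) := by
    ext m
    simp [and_assoc]
  rw [hG, Set.ncard_coe_finset] at h1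
  have h2 := Finset.card_filter_add_card_filter_not (s := Finset.Ico 1 (n + 1))
    (fun m : ℕ => IsPoleNumber P m)
  rw [Nat.card_Ico] at h2
  rw [ell_single_eq hK P n]
  omega

/-- Clifford's bound for multiples of a place. -/
theorem clifford (hK : IsFunctionField k K) (P : Place k K) (n : ℕ)
    (hn : (n : ℤ) ≤ 2 * (genus k K : ℤ) - 1) :
    2 * ell (Finsupp.single P (n : ℤ) : Divisor k K) ≤ n + 2 := by
  obtain ⟨d, hd⟩ : ∃ d : ℕ, n + d + 1 = 2 * genus k K := ⟨2 * genus k K - 1 - n, by omega⟩
  induction d generalizing n with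
  | zero =>
    have h1 := ell_eq_of_deg_ge hK (D := Finsupp.single P (n : ℤ)) (by
      rw [deg_single, place_deg_one hK]; push_cast; omega)
    rw [deg_single, place_deg_one hK] at h1
    push_cast at h1
    omega
  | succ d ih =>
    by_cases h : IsPoleNumber P ((n + 1 : ℕ) : ℤ)
    · have h1 := ih (n + 1) (by push_cast; omega) (by omega)
      rw [ell_single_pole hK P _ h, show ((n + 1 : ℕ) : ℤ) - 1 = n by push_cast; ring] at h1
      omega
    · exact two_mul_ell_le_of_gap hK P n h

end Clifford

section Fixed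

omit [IsAlgClosed k] in
theorem place_eq_of_lt {P Q : Place k K} (h : ∀ x, P.1 x < 1 → Q.1 x < 1) : Q = P := by
  apply place_eq_of_le
  intro x hx
  by_contra hlt
  rw [not_le] at hlt
  have hx0 : x ≠ 0 := by
    rintro rfl
    rw [map_zero] at hlt
    exact absurd hlt (by simp)
  have h1 : P.1 x⁻¹ < 1 := by
    rw [map_inv₀]
    exact inv_lt_one_of_one_lt₀ hlt
  have h2 := h _ h1
  rw [map_inv₀] at h2
  have h3 : Q.1 x ≠ 0 := (Valuation.ne_zero_iff _).2 hx0
  have h4 : Q.1 x * (Q.1 x)⁻¹ = 1 := mul_inv_cancel₀ h3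
  have h5 : Q.1 x * (Q.1 x)⁻¹ < 1 := by
    calc Q.1 x * (Q.1 x)⁻¹ ≤ 1 * (Q.1 x)⁻¹ := by gcongr
      _ = (Q.1 x)⁻¹ := one_mul _
      _ < 1 := h2
  exact absurd h4 h5.ne

omit [IsAlgClosed k] in
/-- transport of places by an automorphism -/
def comapPlace (σ : K ≃ₐ[k] K) (P : Place k K) : Place k K :=
  ⟨P.1.comap (σ : K →+* K), by
    intro c
    rw [Valuation.comap_apply]
    have : (σ : K →+* K) (algebraMap k K c) = algebraMap k K c := σ.commutes c
    rw [this]
    exact P.2.1 c, by
    intro y
    obtain ⟨x, hx⟩ := P.2.2 y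
    refine ⟨σ.symm x, ?_⟩
    rw [Valuation.comap_apply]
    have : (σ : K →+* K) (σ.symm x) = x := σ.apply_symm_apply x
    rw [this, hx]⟩

omit [IsAlgClosed k] in
theorem comapPlace_apply (σ : K ≃ₐ[k] K) (P : Place k K) (x : K) :
    (comapPlace σ P).1 x = P.1 (σ x) := rfl

/-- every integral element is congruent to a constant -/
theorem exists_const (hK : IsFunctionField k K) (P : Place k K) {x : K} (hx : P.1 x ≤ 1) :
    ∃ c : k, P.1 (x - algebraMap k K c) < 1 := by
  obtain ⟨c, hc⟩ := (bijective_residue hK P).2 (IsLocalRing.residue P.O ⟨x, hx⟩)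
  refine ⟨c, ?_⟩
  have h1 : IsLocalRing.residue P.O (⟨x, hx⟩ - algebraMap k P.O c) = 0 := by
    rw [map_sub, sub_eq_zero, ← hc]
    rfl
  rw [IsLocalRing.residue_eq_zero_iff] at h1
  exact (Valuation.mem_maximalIdeal_iff _ P.1).1 h1

theorem infinite_place (hK : IsFunctionField k K) : Infinite (Place k K) := by
  obtain ⟨⟨x, hx, -⟩, -⟩ := id hK
  have h1 : ∀ c : k, ∃ P : Place k K, P.1 (x - algebraMap k K c) < 1 := by
    intro c
    apply exists_zero hK
    rintro ⟨d, hd⟩
    apply hx
    have : x = algebraMap k K (d + c) := by rw [map_add, hd]; ring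
    rw [this]
    exact isAlgebraic_algebraMap _
  choose f hf using h1
  have hk : Infinite k := IsAlgClosed.instInfinite
  refine Infinite.of_injective f ?_
  intro c d hcd
  by_contra hne
  have h2 := hf c
  have h3 := hf d
  rw [← hcd] at h3
  have h4 := (f c).1.map_sub_lt h3 h2
  rw [sub_sub_sub_cancel_left, ← map_sub, val_algebraMap _ (sub_ne_zero.2 hne)] at h4
  exact lt_irrefl _ h4

theorem val_sub_lt (hK : IsFunctionField k K) {σ : K ≃ₐ[k] K} {P : Place k K}
    (hP : ∀ x : K, P.1 x < 1 → P.1 (σ x) < 1) {x : K} (hx : P.1 x ≤ 1) : P.1 (σ x - x) < 1 := by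
  obtain ⟨c, hc⟩ := exists_const hK P hx
  have h1 := hP _ hc
  rw [map_sub, AlgEquiv.commutes] at h1
  have h2 := P.1.map_sub_lt h1 hc
  rwa [sub_sub_sub_cancel_right] at h2

theorem exists_not_fixed (hK : IsFunctionField k K) (σ : K ≃ₐ[k] K) (hσ : σ ≠ 1) :
    ∃ Q : Place k K, ¬ ∀ x : K, Q.1 x < 1 → Q.1 (σ x) < 1 := by
  by_contra hcon
  push Not at hcon
  obtain ⟨x, hx⟩ : ∃ x, σ x ≠ x := by
    by_contra h
    push Not at h
    exact hσ (AlgEquiv.ext h)
  have hz : σ x - x ≠ 0 := sub_ne_zero.2 hx
  have h1 : (Set.univ : Set (Place k K)) ⊆ {P | ¬ P.1 x ≤ 1} ∪ {P | ¬ P.1 (σ x - x)⁻¹ ≤ 1} := by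
    intro P _
    by_cases hP : P.1 x ≤ 1
    · right
      have h2 := val_sub_lt hK (hcon P) hP
      rw [Set.mem_ofPred_eq, not_le, map_inv₀]
      exact (one_lt_inv₀ (zero_lt_iff.2 ((Valuation.ne_zero_iff _).2 hz))).2 h2
    · left
      exact hP
  have h2 := ((finite_pole hK x).union (finite_pole hK (σ x - x)⁻¹)).subset h1
  have := infinite_place hK
  exact Set.infinite_univ h2

theorem deg_sum_single (hK : IsFunctionField k K) (S : Finset (Place k K)) :
    Divisor.deg (∑ P ∈ S, Finsupp.single P (1 : ℤ) : Divisor k K) = S.card := by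
  classical
  induction S using Finset.induction_on with
  | empty => simp [deg_zero]
  | insert a s ha ih =>
    rw [Finset.sum_insert ha, deg_add, ih, deg_single, place_deg_one hK, Finset.card_insert_of_notMem ha]
    push_cast
    ring

theorem card_fixed_le (hK : IsFunctionField k K) (σ : K ≃ₐ[k] K) (hσ : σ ≠ 1)
    (S : Finset (Place k K)) (hS : ∀ P ∈ S, ∀ x : K, P.1 x < 1 → P.1 (σ x) < 1) :
    S.card ≤ 2 * genus k K + 2 := by
  classical
  obtain ⟨Q, hQ⟩ := exists_not_fixed hK σ hσ
  -- the function with poles at `Q` only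
  have h1 := deg_add_one_sub_ell_le hK (Finsupp.single Q ((genus k K + 1 : ℕ) : ℤ))
  rw [deg_single, place_deg_one hK] at h1
  have h2 : ¬ L (Finsupp.single Q ((genus k K + 1 : ℕ) : ℤ) : Divisor k K) ≤ L (0 : Divisor k K) := by
    intro hle
    have := finite_L hK (0 : Divisor k K)
    have h3 := Submodule.finrank_mono hle
    have h4 := ell_zero hK
    unfold ell at h4 h1
    generalize Module.finrank k (L (Finsupp.single Q ((genus k K + 1 : ℕ) : ℤ) : Divisor k K)) = m at *
    push_cast at h1
    omega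
  obtain ⟨x, hx, hx0⟩ := SetLike.not_le_iff_exists.1 h2
  rw [mem_L_single] at hx
  have hxQ : ¬ Q.1 x ≤ 1 := by
    intro h
    apply hx0
    intro P
    rw [Finsupp.coe_zero, Pi.zero_apply, exp_zero]
    by_cases hPQ : P = Q
    · rw [hPQ]; exact h
    · exact hx.2 P hPQ
  set Q₁ := comapPlace σ.symm Q with hQ₁def
  have hQ₁ : ∀ y, Q₁.1 (σ y) = Q.1 y := by
    intro y
    rw [hQ₁def, comapPlace_apply, AlgEquiv.symm_apply_apply]
  have hne : Q₁ ≠ Q := by
    intro h
    apply hQ
    intro y hy
    rw [← hQ₁ y, h] at hy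
    exact hy
  have hz : σ x - x ≠ 0 := by
    intro h
    rw [sub_eq_zero] at h
    have h3 : ¬ Q₁.1 x ≤ 1 := by
      rw [← h, hQ₁]
      exact hxQ
    exact h3 (hx.2 Q₁ hne)
  -- fixed places are different from `Q`, `Q₁`
  have hSQ : Q ∉ S := fun h => hQ (hS Q h)
  have hSQ₁ : Q₁ ∉ S := by
    intro h
    have h3 := hS Q₁ h
    have h4 : Q = Q₁ := place_eq_of_lt (fun y hy => by rw [← hQ₁ y]; exact h3 y hy)
    exact hne h4.symm
  set D : Divisor k K := Finsupp.single Q ((genus k K + 1 : ℕ) : ℤ) +
    Finsupp.single Q₁ ((genus k K + 1 : ℕ) : ℤ) - ∑ P ∈ S, Finsupp.single P 1 with hD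
  have hsum : ∀ P : Place k K, (∑ P' ∈ S, Finsupp.single P' (1 : ℤ) : Divisor k K) P =
      if P ∈ S then 1 else 0 := by
    intro P
    rw [Finsupp.finsetSum_apply]
    simp [Finsupp.single_apply]
  have hzD : σ x - x ∈ L D := by
    intro P
    have hDP : D P = (Finsupp.single Q ((genus k K + 1 : ℕ) : ℤ) : Divisor k K) P +
        (Finsupp.single Q₁ ((genus k K + 1 : ℕ) : ℤ) : Divisor k K) P - if P ∈ S then 1 else 0 := by
      rw [hD, Finsupp.sub_apply, Finsupp.add_apply, hsum]
    rw [hDP]
    by_cases hP1 : P = Q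
    · subst hP1
      rw [Finsupp.single_eq_same, Finsupp.single_eq_of_ne (Ne.symm hne), if_neg hSQ, add_zero, sub_zero]
      refine (P.1.map_sub _ _).trans (max_le ?_ hx.1)
      -- `P (σ x) ≤ 1`
      have h5 : P.1 (σ x) ≤ 1 := by
        rw [← comapPlace_apply]
        apply hx.2
        intro h6
        apply hne
        have h7 : ∀ y, P.1 (σ y) = P.1 y := fun y => by rw [← comapPlace_apply, h6]
        apply Subtype.ext
        ext y
        rw [hQ₁def, comapPlace_apply, ← h7, AlgEquiv.apply_symm_apply]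
      refine h5.trans ?_
      rw [← exp_zero, exp_le_exp]
      positivity
    · by_cases hP2 : P = Q₁
      · rw [hP2, Finsupp.single_eq_same, Finsupp.single_eq_of_ne hne, if_neg hSQ₁, zero_add,
          sub_zero]
        refine (Q₁.1.map_sub _ _).trans (max_le ?_ ?_)
        · rw [hQ₁]
          exact hx.1
        · refine (hx.2 Q₁ hne).trans ?_
          rw [← exp_zero, exp_le_exp]
          positivity
      · rw [Finsupp.single_eq_of_ne hP1, Finsupp.single_eq_of_ne hP2, add_zero, zero_sub]
        by_cases hPS : P ∈ S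
        · rw [if_pos hPS]
          have h5 := val_sub_lt hK (hS P hPS) (hx.2 P hP1)
          rw [lt_one_iff_le] at h5
          exact h5
        · rw [if_neg hPS, neg_zero, exp_zero]
          refine (P.1.map_sub _ _).trans (max_le ?_ (hx.2 P hP1))
          rw [← comapPlace_apply]
          apply hx.2
          intro h6
          apply hP2
          apply Subtype.ext
          ext y
          rw [hQ₁def, comapPlace_apply, ← h6, comapPlace_apply, AlgEquiv.apply_symm_apply]
  have hdegS : Divisor.deg (∑ P ∈ S, Finsupp.single P (1 : ℤ) : Divisor k K) = S.card :=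
    deg_sum_single hK S
  have hdeg : D.deg = 2 * (genus k K : ℤ) + 2 - S.card := by
    rw [hD, deg_sub, deg_add, deg_single, deg_single, place_deg_one hK, place_deg_one hK, hdegS]
    push_cast
    ring
  by_contra hcon
  have h6 := L_eq_bot_of_deg_neg hK (D := D) (by rw [hdeg]; omega)
  rw [h6] at hzD
  exact hz hzD

end Fixed

end K663.AlgC
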