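import Groth.Agent.MiscA.WCMain
import Groth.Prelude.Def_W4bk4goldsch45
import Mathlib.FieldTheory.SeparablyGenerated
import Mathlib.FieldTheory.IntermediateField.Adjoin.Algebra
import Mathlib.RingTheory.AlgebraicIndependent.TranscendenceBasis
import Mathlib.FieldTheory.Perfect

/-!
# Function fields over perfect fields: `FunFld` places versus `WCPlace` places

* `exists_isSep`: a function field of one variable over a perfect field has a separating element;
* `placeEquiv`: `FunFld.Place k K ≃ WCPlace.Place k K`, compatible with valuations;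
* `crvF`: the abstract curve `Crv k K (FunFld.Place k K)`, with `crvF_fin`, `l_zero`, `genus_eq`,
  `ell_eq`, `deg_eq`, `div_eq`, `prinDivs_eq`, `effDivCount_eq`.
-/

set_option autoImplicit false
open WithZero

namespace K663.Bridge

open Groth.Agent.Models.FFLen Groth.Agent.Models.FFRR Groth.Agent.MiscA
open Groth.Agent.MiscA.WCPlace (IsSep)

universe u v

section sep

variable {k : Type u} {K : Type v} [Field k] [Field K] [Algebra k K]

theorem essFiniteType (hK : FunFld.IsFunctionField k K) : Algebra.EssFiniteType k K := by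
  obtain ⟨⟨x, hx, hfin⟩, -⟩ := hK
  have h1 : Algebra.EssFiniteType k (IntermediateField.adjoin k ({x} : Set K)) := by
    rw [IntermediateField.essFiniteType_iff]
    exact IntermediateField.fg_adjoin_of_finite (Set.finite_singleton x)
  have h2 : Algebra.EssFiniteType (IntermediateField.adjoin k ({x} : Set K)) K := inferInstance
  exact Algebra.EssFiniteType.comp k (IntermediateField.adjoin k ({x} : Set K)) K

open scoped IntermediateField.algebraAdjoinAdjoin in
theorem isTranscendenceBasis_singleton {x : K} (hx : Transcendental k x)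
    (hfin : FiniteDimensional (IntermediateField.adjoin k ({x} : Set K)) K) :
    IsTranscendenceBasis k (fun _ : Unit => x) := by
  have h1 : AlgebraicIndependent k (fun _ : Unit => x) :=
    (algebraicIndependent_unique_type_iff (ι := Unit) (R := k) (x := fun _ => x)).2 hx
  rw [h1.isTranscendenceBasis_iff_isAlgebraic]
  have h2 : Set.range (fun _ : Unit => x) = {x} := by simp
  rw [h2]
  have h3 : Algebra.IsAlgebraic (IntermediateField.adjoin k ({x} : Set K)) K := inferInstance
  exact (IsFractionRing.comap_isAlgebraic_iff (A := Algebra.adjoin k ({x} : Set K))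
    (K := IntermediateField.adjoin k ({x} : Set K)) (C := K)).2 h3

/-- A function field of one variable over a perfect field has a separating element. -/
theorem exists_isSep [PerfectField k] (hK : FunFld.IsFunctionField k K) : ∃ t : K, IsSep k K t := by
  have hess := essFiniteType hK
  obtain ⟨⟨x, hx, hfin⟩, -⟩ := hK
  obtain ⟨s, hs, hsep⟩ := exists_isTranscendenceBasis_and_isSeparable_of_perfectField k K
  have h3 : s.card = 1 := by
    have h2 := hs.lift_cardinalMk_eq (isTranscendenceBasis_singleton hx hfin)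
    simpa using h2
  obtain ⟨t, rfl⟩ := Finset.card_eq_one.1 h3
  rw [Finset.coe_singleton] at hsep
  refine ⟨t, ?_, ?_, hsep⟩
  · have h5 : AlgebraicIndependent k (fun x : ({t} : Finset K) => (x : K)) := hs.1
    exact h5.transcendental ⟨t, Finset.mem_singleton_self t⟩
  · have : Algebra.EssFiniteType (IntermediateField.adjoin k {t}) K :=
      Algebra.EssFiniteType.of_comp k _ _
    exact Algebra.finite_of_essFiniteType_of_isAlgebraic

end sep

section places

variable {k : Type u} {K : Type v} [Field k] [Field K] [Algebra k K]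

/-- the valuation ring of a place -/
def toWC (P : FunFld.Place k K) : WCPlace.Place k K :=
  ⟨P.1.valuationSubring, by
    intro htop
    obtain ⟨x, hx⟩ := P.2.2 (exp (1 : ℤ))
    have h1 : x ∈ P.1.valuationSubring := by
      rw [htop]
      exact ValuationSubring.mem_top _
    rw [Valuation.mem_valuationSubring_iff, hx, ← exp_zero, exp_le_exp] at h1
    omega, P.2.1⟩

theorem mem_toWC (P : FunFld.Place k K) (x : K) : x ∈ (toWC P).1 ↔ P.1 x ≤ 1 := Iff.rfl

theorem toWC_val (h : ∃ t : K, IsSep k K t) (P : FunFld.Place k K) : (toWC P).val = P.1 := by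
  obtain ⟨t, ht⟩ := h
  exact ht.val_eq_of (toWC P) (P.2.2 (exp (-1 : ℤ))) rfl

/-- the place of a valuation ring -/
noncomputable def ofWC (h : ∃ t : K, IsSep k K t) (P : WCPlace.Place k K) : FunFld.Place k K :=
  ⟨P.val, by
    obtain ⟨t, ht⟩ := h
    intro c
    rw [ht.val_le_one_iff]
    exact P.2.2 c, by
    obtain ⟨t, ht⟩ := h
    intro y
    by_cases hy : y = 0
    · exact ⟨0, by rw [map_zero, hy]⟩
    · obtain ⟨x, hx⟩ := ht.exists_val_eq P (log y)
      exact ⟨x, by rw [hx, exp_log hy]⟩⟩

/-- Places as normalized valuations or as valuation rings. -/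
noncomputable def placeEquiv (h : ∃ t : K, IsSep k K t) :
    FunFld.Place k K ≃ WCPlace.Place k K where
  toFun := toWC
  invFun := ofWC h
  left_inv P := Subtype.ext (toWC_val h P)
  right_inv P := by
    apply WCPlace.Place.ext
    ext x
    rw [mem_toWC]
    obtain ⟨t, ht⟩ := h
    exact ht.val_le_one_iff P x

@[simp] theorem placeEquiv_apply (h : ∃ t : K, IsSep k K t) (P : FunFld.Place k K) :
    placeEquiv h P = toWC P := rfl

theorem placeEquiv_symm_val (h : ∃ t : K, IsSep k K t) (P : WCPlace.Place k K) :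
    ((placeEquiv h).symm P).1 = P.val := rfl

/-- The abstract curve of places of a function field over a perfect field. -/
noncomputable def crvF (h : ∃ t : K, IsSep k K t) : Crv k K (FunFld.Place k K) where
  v P := P.1
  v_const P c := P.2.1 c
  exists_unif P := P.2.2 _
  finite_pole f := by
    have h1 := (WCPlaceCrv.crv h).finite_pole f
    refine Set.Finite.of_finite_image (f := toWC) (h1.subset ?_) ((placeEquiv h).injective.injOn)
    rintro _ ⟨P, hP, rfl⟩
    simp only [Set.mem_ofPred_eq, WCPlaceCrv.crv_v, toWC_val h] at hP ⊢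
    exact hP

@[simp] theorem crvF_v (h : ∃ t : K, IsSep k K t) (P : FunFld.Place k K) : (crvF h).v P = P.1 := rfl

/-- transport of functions on places -/
noncomputable def trans (h : ∃ t : K, IsSep k K t) :
    (FunFld.Place k K → K) ≃ₗ[k] (WCPlace.Place k K → K) :=
  LinearEquiv.funCongrLeft k K (placeEquiv h).symm

theorem trans_apply (h : ∃ t : K, IsSep k K t) (a : FunFld.Place k K → K) (P : FunFld.Place k K) :
    trans h a (toWC P) = a P := by
  change a ((placeEquiv h).symm (placeEquiv h P)) = a P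
  rw [Equiv.symm_apply_apply]

theorem map_AA_zero (h : ∃ t : K, IsSep k K t) :
    ((crvF h).AA 0).map (trans h).toLinearMap = (WCPlaceCrv.crv h).AA 0 := by
  ext a
  rw [Submodule.mem_map_equiv, Crv.mem_AA, Crv.mem_AA]
  constructor
  · intro ha P
    have := ha ((placeEquiv h).symm P)
    simp only [crvF_v, placeEquiv_symm_val, Finsupp.coe_zero, Pi.zero_apply] at this ⊢
    have h2 : (trans h).symm a ((placeEquiv h).symm P) = a P := by
      change a (placeEquiv h ((placeEquiv h).symm P)) = a P
      rw [Equiv.apply_symm_apply]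
    rwa [h2] at this
  · intro ha P
    have := ha (toWC P)
    simp only [WCPlaceCrv.crv_v, toWC_val h, Finsupp.coe_zero, Pi.zero_apply] at this
    exact this

theorem map_KK (h : ∃ t : K, IsSep k K t) :
    (Crv.KK k K (FunFld.Place k K)).map (trans h).toLinearMap = Crv.KK k K (WCPlace.Place k K) := by
  ext a
  rw [Submodule.mem_map_equiv]
  constructor
  · rintro ⟨f, hf⟩
    refine ⟨f, ?_⟩
    have := congrArg (trans h) hf
    rw [LinearEquiv.apply_symm_apply] at this
    rw [← this]
    rfl
  · rintro ⟨f, rfl⟩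
    exact ⟨f, rfl⟩

theorem map_Rk (h : ∃ t : K, IsSep k K t) :
    ((crvF h).Rk).map (trans h).toLinearMap = (WCPlaceCrv.crv h).Rk := by
  ext a
  rw [Submodule.mem_map_equiv, Crv.mem_Rk, Crv.mem_Rk]
  have h1 : {P | ¬ (crvF h).v P ((trans h).symm a P) ≤ 1} =
      (placeEquiv h) ⁻¹' {P | ¬ (WCPlaceCrv.crv h).v P (a P) ≤ 1} := by
    ext P
    simp only [Set.mem_ofPred_eq, Set.mem_preimage, crvF_v, WCPlaceCrv.crv_v, placeEquiv_apply,
      toWC_val h]
    rfl
  rw [h1]
  constructor
  · intro h2
    exact Set.Finite.of_preimage h2 (placeEquiv h).surjective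
  · intro h2
    exact h2.preimage (placeEquiv h).injective.injOn

theorem Fil_eq (h : ∃ t : K, IsSep k K t) (P : FunFld.Place k K) (n : ℤ) :
    (crvF h).Fil P n = (WCPlaceCrv.crv h).Fil (toWC P) n := by
  ext f
  rw [Crv.mem_Fil, Crv.mem_Fil, crvF_v, WCPlaceCrv.crv_v, toWC_val h]

theorem dg0_eq (h : ∃ t : K, IsSep k K t) (P : FunFld.Place k K) :
    (crvF h).dg0 P = (WCPlaceCrv.crv h).dg0 (toWC P) := by
  unfold Crv.dg0
  rw [Fil_eq, Fil_eq]

theorem h1_zero_eq (h : ∃ t : K, IsSep k K t) : (crvF h).h1 0 = (WCPlaceCrv.crv h).h1 0 := by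
  unfold Crv.h1
  rw [← map_AA_zero, ← map_KK h, ← map_Rk, ← Submodule.map_sup,
    rlen_map_of_injective _ (trans h).injective]

theorem h0_zero_eq (h : ∃ t : K, IsSep k K t) : (crvF h).h0 0 = (WCPlaceCrv.crv h).h0 0 := by
  unfold Crv.h0
  rw [← map_AA_zero, ← map_KK h, ← Submodule.map_inf _ (trans h).injective,
    ← Submodule.map_bot (trans h).toLinearMap, rlen_map_of_injective _ (trans h).injective]

theorem crvF_fin (h : ∃ t : K, IsSep k K t) : (crvF h).Fin := by
  have h1 := WCPlaceCrv.crv_fin h
  refine ⟨?_, ?_, ?_⟩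
  · intro P
    rw [Fil_eq, Fil_eq]
    exact h1.finRes (toWC P)
  · rw [h0_zero_eq]
    exact h1.h0_zero
  · rw [h1_zero_eq]
    exact h1.h1_zero

theorem i_zero_eq (h : ∃ t : K, IsSep k K t) : (crvF h).i 0 = (WCPlaceCrv.crv h).i 0 := by
  unfold Crv.i
  rw [h1_zero_eq]

theorem l_zero_eq (h : ∃ t : K, IsSep k K t) : (crvF h).l 0 = (WCPlaceCrv.crv h).l 0 := by
  unfold Crv.l
  rw [h0_zero_eq]

theorem nonempty_place (h : ∃ t : K, IsSep k K t) : Nonempty (FunFld.Place k K) :=
  (placeEquiv h).nonempty_congr.2 (WCPlaceRes.nonempty_place h)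

theorem deg_eq_dg0 (h : ∃ t : K, IsSep k K t) (P : FunFld.Place k K) :
    P.deg = (crvF h).dg0 P := by
  rw [dg0_eq, WCPlaceRes.dg0_eq_finrank]
  unfold FunFld.Place.deg
  have e : IsLocalRing.ResidueField P.O ≃ₗ[k] IsLocalRing.ResidueField (toWC P).1 :=
    { toFun := fun x => x
      invFun := fun x => x
      left_inv := fun _ => rfl
      right_inv := fun _ => rfl
      map_add' := fun _ _ => rfl
      map_smul' := by
        intro c x
        have h1 : (c • x : IsLocalRing.ResidueField P.O) =
          algebraMap k (IsLocalRing.ResidueField P.O) c * x := Algebra.smul_def c x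
        exact h1.trans (Algebra.smul_def (A := IsLocalRing.ResidueField (toWC P).1) c x).symm }
  exact e.finrank_eq

end places

section main

variable {k : Type u} {K : Type v} [Field k] [Field K] [Algebra k K]

theorem l_zero (h : ∃ t : K, IsSep k K t)
    (hk : ∀ x : K, IsAlgebraic k x → x ∈ Set.range (algebraMap k K)) : (crvF h).l 0 = 1 := by
  rw [l_zero_eq]
  exact WCPlaceRes.l_zero_eq_one h hk

theorem L_eq (h : ∃ t : K, IsSep k K t) (D : FunFld.Divisor k K) : (crvF h).L D = FunFld.L D := by
  ext f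
  rfl

theorem ell_eq (h : ∃ t : K, IsSep k K t) (D : FunFld.Divisor k K) :
    FunFld.ell D = (crvF h).l D := by
  have := nonempty_place h
  rw [← (crvF_fin h).finrank_L, L_eq]
  rfl

theorem deg_eq (h : ∃ t : K, IsSep k K t) (D : FunFld.Divisor k K) :
    D.deg = (crvF h).deg D := by
  unfold FunFld.Divisor.deg Crv.deg
  rw [Finsupp.liftAddHom_apply]
  refine Finsupp.sum_congr fun P _ => ?_
  rw [deg_eq_dg0 h]
  rfl

theorem degHom_eq (h : ∃ t : K, IsSep k K t) (D : FunFld.Divisor k K) :
    FunFld.degHom k K D = (crvF h).deg D := by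
  rw [← deg_eq]
  rfl

theorem genus_eq (h : ∃ t : K, IsSep k K t)
    (hk : ∀ x : K, IsAlgebraic k x → x ∈ Set.range (algebraMap k K)) :
    FunFld.genus k K = (crvF h).i 0 := by
  have hne := nonempty_place h
  have hF := crvF_fin h
  have h0 := l_zero h hk
  have h1 : ∀ D : FunFld.Divisor k K,
      (FunFld.Divisor.deg D + 1 - (FunFld.ell D : ℤ)).toNat ≤ (crvF h).i 0 := by
    intro D
    rw [deg_eq h, ell_eq h]
    have := hF.chi D
    omega
  obtain ⟨D, -, hD⟩ := hF.exists_i_eq_zero
  have h2 : (FunFld.Divisor.deg D + 1 - (FunFld.ell D : ℤ)).toNat = (crvF h).i 0 := by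
    rw [deg_eq h, ell_eq h]
    have := hF.chi D
    omega
  unfold FunFld.genus
  refine le_antisymm (csSup_le (Set.range_nonempty _) ?_) (le_csSup ?_ ⟨D, h2⟩)
  · rintro _ ⟨D, rfl⟩
    exact h1 D
  · exact ⟨(crvF h).i 0, by rintro _ ⟨D, rfl⟩; exact h1 D⟩

theorem div_eq (h : ∃ t : K, IsSep k K t) (x : K) : FunFld.div k x = (crvF h).div x := by
  have hs : (Function.support fun P : FunFld.Place k K => P.ord x).Finite := by
    have h1 := ((crvF h).div x).support.finite_toSet
    refine h1.subset ?_
    intro P hP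
    rw [SetLike.mem_coe, Finsupp.mem_support_iff]
    exact hP
  unfold FunFld.div
  rw [dif_pos hs]
  rfl

theorem prinDivs_eq (h : ∃ t : K, IsSep k K t) : FunFld.prinDivs k K = ZetaCrv.prin (crvF h) := by
  unfold FunFld.prinDivs
  apply le_antisymm
  · rw [AddSubgroup.closure_le]
    rintro _ ⟨x, rfl⟩
    rw [div_eq h]
    by_cases hx : x = 0
    · subst hx
      have : (crvF h).div (0 : K) = 0 := by
        ext P
        change - log ((crvF h).v P 0) = 0
        simp
      rw [this]
      exact zero_mem _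
    · exact ⟨x, hx, rfl⟩
  · rintro _ ⟨f, -, rfl⟩
    rw [← div_eq h]
    exact AddSubgroup.subset_closure ⟨f, rfl⟩

/-- effective divisors -/
noncomputable def effEquiv (h : ∃ t : K, IsSep k K t) (n : ℕ) :
    {D : FunFld.Divisor k K // 0 ≤ D ∧ D.deg = n} ≃ ZetaAbsCount.Eff (crvF h).dg0 n where
  toFun D := ⟨D.1.mapRange Int.toNat rfl, by
    have h1 : ZetaAbs.toZ (D.1.mapRange Int.toNat rfl) = D.1 := by
      ext P
      exact Int.toNat_of_nonneg (D.2.1 P)
    have h2 := ZetaAbs.degHom_toZ (crvF h).dg0 (D.1.mapRange Int.toNat rfl)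
    rw [h1, ZetaAbs.degHom_apply, ZetaCrv.degZ_eq, ← deg_eq, D.2.2] at h2
    exact_mod_cast h2.symm⟩
  invFun E := ⟨ZetaAbs.toZ E.1, by
    intro P
    exact Int.natCast_nonneg (E.1 P), by
    rw [deg_eq h, ← ZetaCrv.degZ_eq, ← ZetaAbs.degHom_apply, ZetaAbs.degHom_toZ, E.2]⟩
  left_inv D := by
    apply Subtype.ext
    ext P
    exact Int.toNat_of_nonneg (D.2.1 P)
  right_inv E := by
    apply Subtype.ext
    ext P
    rfl

theorem effDivCount_eq (h : ∃ t : K, IsSep k K t) (n : ℕ) :
    FunFld.effDivCount k K n = ZetaAbsCount.A (crvF h).dg0 n := by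
  unfold FunFld.effDivCount ZetaAbsCount.A
  exact Nat.card_congr (effEquiv h n)

theorem N_eq (h : ∃ t : K, IsSep k K t) (n : ℕ) :
    ZetaAbsCount.N (crvF h).dg0 n = ZetaAbsCount.N (WCPlaceCrv.crv h).dg0 n := by
  unfold ZetaAbsCount.N
  refine Finset.sum_congr rfl fun d _ => ?_
  congr 1
  refine Nat.card_congr ((placeEquiv h).subtypeEquiv fun P => ?_)
  rw [dg0_eq]
  rfl

theorem N_eq' (h : ∃ t : K, IsSep k K t) (n : ℕ) :
    ZetaAbsCount.N (crvF h).dg0 n =
      ∑ d ∈ n.divisors, d * Nat.card {P : FunFld.Place k K // P.deg = d} := by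
  unfold ZetaAbsCount.N
  refine Finset.sum_congr rfl fun d _ => ?_
  congr 1
  refine Nat.card_congr (Equiv.subtypeEquivRight fun P => ?_)
  rw [deg_eq_dg0 h]

end main

end K663.Bridge
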