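import Groth.Agent.MiscA.ZetaAbsCx

/-!
# Inverse roots of a self-dual polynomial

* `exists_pairing`: a multiset of `2 g` complex numbers invariant under `x ↦ q / x` with product `q ^ g` can be
  enumerated with `α i * α (rev i) = q`;
* `exists_roots_of_functional_equation`;
* `sum_of_prod`, `prod_of_sum`: power sums of the inverse roots and logarithmic derivative.
-/

set_option autoImplicit false

namespace K663.Roots

open Groth.Agent.MiscA Groth.Agent.MiscA.ZetaAbsCx PowerSeries

section LogD

/-- A power series is determined by its constant coefficient and its logarithmic derivative. -/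
theorem LogD_ext {f g v : ℂ⟦X⟧} (hf : LogD f v) (hg : LogD g v) (h0 : coeff 0 f = coeff 0 g)
    (hv : coeff 0 v = 0) : f = g := by
  ext n
  induction n using Nat.strong_induction_on with
  | _ n ih =>
    rcases n with _ | n
    · exact h0
    · have key : ∀ u : ℂ⟦X⟧, LogD u v → coeff (n + 1) u * (n + 1) =
          ∑ j ∈ Finset.range (n + 1), coeff j u * coeff (n + 1 - j) v := by
        intro u hu
        unfold LogD at hu
        have h1 := congrArg (coeff (n + 1)) hu
        rw [coeff_succ_X_mul, coeff_derivative, coeff_mul,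
          Finset.Nat.sum_antidiagonal_eq_sum_range_succ_mk, Finset.sum_range_succ, Nat.sub_self, hv,
          mul_zero, add_zero] at h1
        exact h1
      have h1 := key f hf
      have h2 := key g hg
      have h3 : ∑ j ∈ Finset.range (n + 1), coeff j f * coeff (n + 1 - j) v =
          ∑ j ∈ Finset.range (n + 1), coeff j g * coeff (n + 1 - j) v := by
        refine Finset.sum_congr rfl fun j hj => ?_
        rw [ih j (Finset.mem_range.1 hj)]
      have h4 : (n + 1 : ℂ) ≠ 0 := by exact_mod_cast Nat.succ_ne_zero n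
      exact mul_right_cancel₀ h4 (h1.trans (h3.trans h2.symm))

theorem prod_coe {m : ℕ} (α : Fin m → ℂ) :
    ((∏ i, (1 - Polynomial.C (α i) * Polynomial.X) : Polynomial ℂ) : ℂ⟦X⟧) =
      ∏ i, (1 - C (α i) * X : ℂ⟦X⟧) := by
  rw [← Polynomial.coeToPowerSeries.ringHom_apply, map_prod]
  refine Finset.prod_congr rfl fun i _ => ?_
  rw [map_sub, map_one, map_mul]
  simp

theorem logD_prod {m : ℕ} (α : Fin m → ℂ) :
    LogD (∏ i, (1 - C (α i) * X : ℂ⟦X⟧)) (mk fun n => if n = 0 then 0 else - ∑ i, α i ^ n) := by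
  have h1 : (mk fun n => if n = 0 then 0 else - ∑ i, α i ^ n : ℂ⟦X⟧) =
      ∑ i, mk fun n => if n = 0 then 0 else - α i ^ n := by
    ext n
    rw [map_sum]
    simp only [coeff_mk]
    by_cases hn : n = 0
    · simp [hn]
    · simp [hn]
  rw [h1]
  exact LogD.prod _ _ _ fun i _ => logD_one_sub (α i)

/-- The logarithmic derivative of the numerator of a zeta function. -/
theorem logD_numer {q : ℕ} {N : ℕ → ℕ} {Z : ℤ⟦X⟧}
    (hZN : LogD Z (mk fun n => if n = 0 then 0 else (N n : ℤ))) :
    LogD ((1 - X) * (1 - C (q : ℤ) * X) * Z)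
      (mk fun n => if n = 0 then 0 else (N n : ℤ) - q ^ n - 1) := by
  have h1 : (mk fun n => if n = 0 then 0 else (N n : ℤ) - q ^ n - 1 : ℤ⟦X⟧) =
      (mk fun n => if n = 0 then 0 else - (1 : ℤ) ^ n) +
          (mk fun n => if n = 0 then 0 else - (q : ℤ) ^ n) +
          (mk fun n => if n = 0 then 0 else (N n : ℤ)) := by
    ext n
    simp only [coeff_mk, map_add]
    split_ifs
    · simp
    · rw [one_pow]
      ring
  rw [h1]
  refine LogD.mul (LogD.mul ?_ (logD_one_sub _)) hZN
  have := logD_one_sub (1 : ℤ)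
  rwa [map_one, one_mul] at this

theorem map_mk (v : ℕ → ℤ) : PowerSeries.map (Int.castRingHom ℂ)
    (mk fun n => if n = 0 then 0 else v n) = mk fun n => if n = 0 then 0 else ((v n : ℤ) : ℂ) := by
  ext n
  simp only [coeff_map, coeff_mk]
  split_ifs <;> simp

/-- Power sums of inverse roots. -/
theorem sum_of_prod {m : ℕ} (α : Fin m → ℂ) {F : ℤ⟦X⟧} {v : ℕ → ℤ}
    (hF : LogD F (mk fun n => if n = 0 then 0 else v n))
    (hα : PowerSeries.map (Int.castRingHom ℂ) F =
      ((∏ i, (1 - Polynomial.C (α i) * Polynomial.X) : Polynomial ℂ) : ℂ⟦X⟧)) (n : ℕ) (hn : 1 ≤ n) :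
    ((v n : ℤ) : ℂ) = - ∑ i, α i ^ n := by
  have h1 := LogD.map (Int.castRingHom ℂ) hF
  rw [hα, prod_coe, map_mk] at h1
  have h2 := logD_prod α
  have h3 : (∏ i, (1 - C (α i) * X : ℂ⟦X⟧)) ≠ 0 := by
    intro h0
    have := congrArg (coeff 0) h0
    rw [coeff_zero_eq_constantCoeff, map_prod] at this
    simp at this
  have h4 := congrArg (coeff n) (LogD.unique h3 h1 h2)
  simp only [coeff_mk, if_neg (show n ≠ 0 by omega)] at h4
  exact h4

/-- Conversely power sums determine the product. -/
theorem prod_of_sum {m : ℕ} (α : Fin m → ℂ) {F : ℤ⟦X⟧} {v : ℕ → ℤ}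
    (hF : LogD F (mk fun n => if n = 0 then 0 else v n)) (hF0 : coeff 0 F = 1)
    (hα : ∀ n : ℕ, 1 ≤ n → ((v n : ℤ) : ℂ) = - ∑ i, α i ^ n) :
    PowerSeries.map (Int.castRingHom ℂ) F =
      ((∏ i, (1 - Polynomial.C (α i) * Polynomial.X) : Polynomial ℂ) : ℂ⟦X⟧) := by
  rw [prod_coe]
  have h1 := LogD.map (Int.castRingHom ℂ) hF
  rw [map_mk] at h1
  have h2 := logD_prod α
  have h3 : (mk fun n => if n = 0 then 0 else - ∑ i, α i ^ n : ℂ⟦X⟧) =
      mk fun n => if n = 0 then 0 else ((v n : ℤ) : ℂ) := by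
    ext n
    simp only [coeff_mk]
    split_ifs with h
    · rfl
    · exact (hα n (by omega)).symm
  rw [h3] at h2
  refine LogD_ext h1 h2 ?_ (by simp)
  rw [coeff_map, hF0, coeff_zero_eq_constantCoeff, map_prod]
  simp

end LogD

section Pairing

/-- A multiset of `2 g` complex numbers with product `q ^ g`, invariant under `x ↦ q / x`, is a union of pairs
`{x, q / x}`. -/
theorem exists_half (q : ℂ) (hq : q ≠ 0) (g : ℕ) : ∀ M : Multiset ℂ, M.card = 2 * g → (0 : ℂ) ∉ M →
    M.map (fun x => q / x) = M → M.prod = q ^ g →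
    ∃ β : Fin g → ℂ, (∀ i, β i ≠ 0) ∧
      M = Multiset.map β Finset.univ.val + Multiset.map (fun i => q / β i) Finset.univ.val := by
  classical
  induction g with
  | zero =>
    intro M hM _ _ _
    refine ⟨Fin.elim0, fun i => i.elim0, ?_⟩
    have : M = 0 := Multiset.card_eq_zero.1 (by rw [hM])
    rw [this]
    simp
  | succ g ih =>
    intro M hM h0 hinv hprod
    -- find `x` with `x ::ₘ q/x ::ₘ M' = M`
    have key : ∃ x : ℂ, ∃ M' : Multiset ℂ, M = x ::ₘ (q / x) ::ₘ M' := by
      by_cases hex : ∃ x ∈ M, q / x ≠ x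
      · obtain ⟨x, hx, hne⟩ := hex
        obtain ⟨M₁, rfl⟩ := Multiset.exists_cons_of_mem hx
        have h2 : q / x ∈ M₁ := by
          have h3 : q / x ∈ (x ::ₘ M₁).map (fun x => q / x) :=
            Multiset.mem_map_of_mem (fun x => q / x) hx
          rw [hinv, Multiset.mem_cons] at h3
          exact h3.resolve_left hne
        obtain ⟨M₂, rfl⟩ := Multiset.exists_cons_of_mem h2
        exact ⟨x, M₂, rfl⟩
      · push Not at hex
        -- all elements satisfy `x ^ 2 = q`
        have hsq : ∀ x ∈ M, x * x = q := by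
          intro x hx
          have hx0 : x ≠ 0 := fun h => h0 (h ▸ hx)
          have := hex x hx
          rw [div_eq_iff hx0] at this
          exact this.symm
        obtain ⟨s, hs⟩ : ∃ s, s ∈ M := by
          apply Multiset.exists_mem_of_ne_zero
          rintro rfl
          simp at hM
        have hs0 : s ≠ 0 := fun h => h0 (h ▸ hs)
        obtain ⟨M₁, rfl⟩ := Multiset.exists_cons_of_mem hs
        by_cases h2 : s ∈ M₁
        · obtain ⟨M₂, rfl⟩ := Multiset.exists_cons_of_mem h2
          exact ⟨s, M₂, by rw [hex s hs]⟩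
        · -- all other elements are `- s`
          exfalso
          have h3 : ∀ x ∈ M₁, x = - s := by
            intro x hx
            have h4 := hsq x (Multiset.mem_cons_of_mem hx)
            rw [← hsq s hs, mul_self_eq_mul_self_iff] at h4
            rcases h4 with h4 | h4
            · exact absurd (h4 ▸ hx) h2
            · exact h4
          have h4 : M₁ = Multiset.replicate (2 * g + 1) (-s) := by
            rw [Multiset.eq_replicate]
            refine ⟨?_, h3⟩
            rw [Multiset.card_cons] at hM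
            omega
          rw [h4, Multiset.prod_cons, Multiset.prod_replicate, ← hsq s hs] at hprod
          have h5 : s * (-s) ^ (2 * g + 1) = - (s * s) ^ (g + 1) := by
            rw [Odd.neg_pow ⟨g, rfl⟩]
            ring
          rw [h5] at hprod
          have h6 : (s * s) ^ (g + 1) ≠ 0 := pow_ne_zero _ (mul_ne_zero hs0 hs0)
          apply h6
          have h7 : (2 : ℂ) * (s * s) ^ (g + 1) = 0 := by linear_combination - hprod
          exact (mul_eq_zero.1 h7).resolve_left two_ne_zero
    obtain ⟨x, M', rfl⟩ := key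
    have hx0 : x ≠ 0 := fun h => h0 (h ▸ Multiset.mem_cons_self _ _)
    have hqx : q / x ≠ 0 := div_ne_zero hq hx0
    obtain ⟨β, hβ0, hβ⟩ := ih M' (by
        rw [Multiset.card_cons, Multiset.card_cons] at hM; omega) (fun h => h0 (by simp [h])) (by
        rw [Multiset.map_cons, Multiset.map_cons, div_div_cancel₀ hq, Multiset.cons_swap] at hinv
        exact (Multiset.cons_inj_right _).1 ((Multiset.cons_inj_right _).1 hinv)) (by
        rw [Multiset.prod_cons, Multiset.prod_cons, ← mul_assoc, mul_div_cancel₀ _ hx0, pow_succ'] at hprod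
        exact mul_left_cancel₀ hq hprod)
    refine ⟨Fin.cons x β, ?_, ?_⟩
    · intro i
      refine Fin.cases ?_ (fun j => ?_) i
      · exact hx0
      · exact hβ0 j
    · have e1 : Multiset.map (Fin.cons x β : Fin (g + 1) → ℂ) Finset.univ.val =
          x ::ₘ Multiset.map β Finset.univ.val := by
        rw [Fin.univ_succ]
        simp
      have e2 : Multiset.map (fun i => q / (Fin.cons x β : Fin (g + 1) → ℂ) i) Finset.univ.val =
          (q / x) ::ₘ Multiset.map (fun i => q / β i) Finset.univ.val := by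
        rw [Fin.univ_succ]
        simp [Function.comp_def]
      rw [e1, e2, Multiset.cons_add, Multiset.add_cons, ← hβ]

/-- Enumeration with `α i * α (rev i) = q`. -/
theorem exists_pairing (q : ℂ) (hq : q ≠ 0) (g : ℕ) (M : Multiset ℂ) (hM : M.card = 2 * g)
    (h0 : (0 : ℂ) ∉ M) (hinv : M.map (fun x => q / x) = M) (hprod : M.prod = q ^ g) :
    ∃ α : Fin (2 * g) → ℂ, Multiset.map α Finset.univ.val = M ∧ ∀ i, α i * α (Fin.rev i) = q := by
  obtain ⟨β, hβ0, hβ⟩ := exists_half q hq g M hM h0 hinv hprod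
  let α : Fin (2 * g) → ℂ := fun i => if h : i.1 < g then β ⟨i.1, h⟩ else q / β ⟨2 * g - 1 - i.1, by omega⟩
  refine ⟨α, ?_, ?_⟩
  · rw [hβ]
    let e : Fin g ⊕ Fin g ≃ Fin (2 * g) :=
      (Equiv.sumCongr (Equiv.refl _) Fin.revPerm).trans (finSumFinEquiv.trans (finCongr (two_mul g).symm))
    have h1 : Multiset.map α Finset.univ.val = Multiset.map (α ∘ e) Finset.univ.val := by
      rw [← Multiset.map_map]
      congr 1
      have h2 := Finset.map_univ_equiv e
      rw [← h2]
      rfl
    rw [h1]
    have h3 : (Finset.univ : Finset (Fin g ⊕ Fin g)).val =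
        Multiset.map Sum.inl Finset.univ.val + Multiset.map Sum.inr Finset.univ.val := by
      rfl
    rw [h3, Multiset.map_add, Multiset.map_map, Multiset.map_map]
    congr 1
    · refine Multiset.map_congr rfl fun i _ => ?_
      have h4 : (e (Sum.inl i)).1 = i.1 := by simp [e]
      simp only [Function.comp_apply, α]
      rw [dif_pos (by rw [h4]; exact i.2)]
      congr 1
    · refine Multiset.map_congr rfl fun i _ => ?_
      have h4 : (e (Sum.inr i)).1 = g + (g - 1 - i.1) := by simp [e]; omega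
      simp only [Function.comp_apply, α]
      rw [dif_neg (by rw [h4]; omega)]
      congr 2
      apply Fin.ext
      change 2 * g - 1 - (e (Sum.inr i)).1 = i.1
      rw [h4]
      omega
  · intro i
    simp only [α, Fin.val_rev]
    by_cases h : i.1 < g
    · rw [dif_pos h, dif_neg (by omega)]
      have h1 : (⟨2 * g - 1 - (2 * g - (i.1 + 1)), by omega⟩ : Fin g) = ⟨i.1, h⟩ := by
        apply Fin.ext
        simp only
        omega
      rw [h1, mul_div_cancel₀ _ (hβ0 _)]
    · rw [dif_neg h, dif_pos (by omega)]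
      have h1 : (⟨2 * g - (i.1 + 1), by omega⟩ : Fin g) = ⟨2 * g - 1 - i.1, by omega⟩ := by
        apply Fin.ext
        simp only
        omega
      rw [h1, div_mul_cancel₀ _ (hβ0 _)]

end Pairing

section Main

/-- Inverse roots of a polynomial satisfying the functional equation. -/
theorem exists_roots_of_functional_equation (q g : ℕ) (hq : 0 < q) (P : Polynomial ℤ)
    (hP0 : P.coeff 0 = 1) (hdeg : P.natDegree ≤ 2 * g)
    (hfe : ∀ i ≤ 2 * g, ((P.coeff (2 * g - i) : ℤ) : ℚ) = (q : ℚ) ^ ((g : ℤ) - i) * ((P.coeff i : ℤ) : ℚ)) :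
    ∃ α : Fin (2 * g) → ℂ, (∀ i, IsIntegral ℤ (α i)) ∧
      P.map (Int.castRingHom ℂ) = ∏ i, (1 - Polynomial.C (α i) * Polynomial.X) ∧
      ∀ i, α i * α (Fin.rev i) = (q : ℂ) := by
  have hqC : (q : ℂ) ≠ 0 := by exact_mod_cast hq.ne'
  let R : Polynomial ℤ := P.reflect (2 * g)
  let RC : Polynomial ℂ := R.map (Int.castRingHom ℂ)
  have hRdeg : R.natDegree ≤ 2 * g := (Polynomial.natDegree_reflect_le).trans (max_le le_rfl hdeg)
  have hRtop : R.coeff (2 * g) = 1 := by
    rw [Polynomial.coeff_reflect, Polynomial.revAt_le le_rfl, Nat.sub_self, hP0]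
  have hRmonic : R.Monic := Polynomial.monic_of_natDegree_le_of_coeff_eq_one _ hRdeg hRtop
  have hRdeg' : R.natDegree = 2 * g :=
    le_antisymm hRdeg (Polynomial.le_natDegree_of_ne_zero (by rw [hRtop]; exact one_ne_zero))
  have hRCmonic : RC.Monic := hRmonic.map _
  have hRCdeg : RC.natDegree = 2 * g := by rw [hRmonic.natDegree_map, hRdeg']
  -- functional equation over `ℂ`
  have hfeC : ∀ i ≤ 2 * g, ((P.coeff (2 * g - i) : ℤ) : ℂ) = (q : ℂ) ^ ((g : ℤ) - i) * ((P.coeff i : ℤ) : ℂ) := by
    intro i hi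
    have h1 := congrArg (Rat.cast : ℚ → ℂ) (hfe i hi)
    push_cast at h1
    exact h1
  have hRcoeff : ∀ i ≤ 2 * g, RC.coeff i = (q : ℂ) ^ ((g : ℤ) - i) * ((P.coeff i : ℤ) : ℂ) := by
    intro i hi
    rw [Polynomial.coeff_map, Polynomial.coeff_reflect, Polynomial.revAt_le hi, ← hfeC i hi]
    simp
  -- `P(x)` in terms of `R`
  obtain ⟨γ, hγ, hγm⟩ := exists_roots RC (2 * g) hRCmonic hRCdeg
  have hPprod : P.map (Int.castRingHom ℂ) = ∏ i, (1 - Polynomial.C (γ i) * Polynomial.X) := by
    rw [← reflect_prod, ← hγ]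
    change _ = ((P.reflect (2 * g)).map (Int.castRingHom ℂ)).reflect (2 * g)
    rw [← Polynomial.reflect_map, Polynomial.reflect_reflect]
  -- product
  have hprod : ∏ i, γ i = (q : ℂ) ^ g := by
    have h1 : RC.eval 0 = ∏ i, (0 - γ i) := by
      rw [hγ, Polynomial.eval_prod]
      simp
    have h2 : RC.eval 0 = (q : ℂ) ^ g := by
      rw [← Polynomial.coeff_zero_eq_eval_zero, hRcoeff 0 (Nat.zero_le _), hP0]
      simp
    have h3 : ∏ i, (0 - γ i) = ∏ i, γ i := by
      rw [Finset.prod_congr rfl fun i _ => zero_sub (γ i)]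
      rw [Finset.prod_neg]
      simp
    rw [← h3, ← h1, h2]
  have hγ0 : ∀ i, γ i ≠ 0 := by
    intro i h0
    have := Finset.prod_eq_zero (Finset.mem_univ i) h0
    rw [hprod] at this
    exact pow_ne_zero _ hqC this
  -- `R(x) = q^g P(x / q)`
  have hR : RC = Polynomial.C ((q : ℂ) ^ g) *
      (P.map (Int.castRingHom ℂ)).comp (Polynomial.C ((q : ℂ)⁻¹) * Polynomial.X) := by
    ext i
    have hc : (P.map (Int.castRingHom ℂ)).coeff i = ((P.coeff i : ℤ) : ℂ) := by
      rw [Polynomial.coeff_map]
      rfl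
    rw [Polynomial.coeff_C_mul, Polynomial.comp_C_mul_X_coeff, hc]
    by_cases hi : i ≤ 2 * g
    · rw [hRcoeff i hi, zpow_sub₀ hqC, zpow_natCast, zpow_natCast, inv_pow]
      ring
    · rw [Polynomial.coeff_eq_zero_of_natDegree_lt (show RC.natDegree < i by omega),
        Polynomial.coeff_eq_zero_of_natDegree_lt (show P.natDegree < i by omega)]
      simp
  have hR2 : RC = ∏ i, (Polynomial.X - Polynomial.C ((q : ℂ) / γ i)) := by
    have h1 : (P.map (Int.castRingHom ℂ)).comp (Polynomial.C ((q : ℂ)⁻¹) * Polynomial.X) =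
        ∏ i, (Polynomial.C (- (γ i / q)) * (Polynomial.X - Polynomial.C ((q : ℂ) / γ i))) := by
      rw [hPprod, Polynomial.prod_comp]
      refine Finset.prod_congr rfl fun i _ => ?_
      rw [Polynomial.sub_comp, Polynomial.mul_comp, Polynomial.one_comp, Polynomial.C_comp,
        Polynomial.X_comp, mul_sub, ← Polynomial.C_mul, ← mul_assoc, ← Polynomial.C_mul]
      have h2 : -(γ i / q) * ((q : ℂ) / γ i) = -1 := by
        have := hγ0 i
        field_simp
      rw [h2]
      simp only [map_neg, map_one, Polynomial.C_mul]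
      rw [div_eq_mul_inv, Polynomial.C_mul]
      ring
    rw [hR, h1, Finset.prod_mul_distrib, ← map_prod, ← mul_assoc, ← Polynomial.C_mul]
    have h3 : ∏ i, -(γ i / (q : ℂ)) = ((q : ℂ) ^ g)⁻¹ := by
      rw [Finset.prod_neg, Finset.prod_div_distrib, hprod, Finset.prod_const]
      simp only [Finset.card_univ, Fintype.card_fin]
      rw [Even.neg_one_pow ⟨g, by ring⟩, one_mul, div_eq_iff (pow_ne_zero _ hqC), eq_comm,
        inv_mul_eq_iff_eq_mul₀ (pow_ne_zero _ hqC)]
      ring
    rw [h3, mul_inv_cancel₀ (pow_ne_zero _ hqC), Polynomial.C_1, one_mul]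
  have hinv : (Multiset.map γ Finset.univ.val).map (fun x => (q : ℂ) / x) =
      Multiset.map γ Finset.univ.val := by
    have h1 : (∏ i, (Polynomial.X - Polynomial.C ((q : ℂ) / γ i))).roots =
        (Multiset.map γ Finset.univ.val).map (fun x => (q : ℂ) / x) := by
      have h2 : (∏ i, (Polynomial.X - Polynomial.C ((q : ℂ) / γ i))) =
          (((Multiset.map γ Finset.univ.val).map (fun x => (q : ℂ) / x)).map
            (fun a => Polynomial.X - Polynomial.C a)).prod := by
        rw [Multiset.map_map, Multiset.map_map]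
        rfl
      rw [h2, Polynomial.roots_multiset_prod_X_sub_C]
    rw [← h1, ← hR2, hγm]
  obtain ⟨α, hα, hpair⟩ := exists_pairing (q : ℂ) hqC g (Multiset.map γ Finset.univ.val)
    (by simp) (by
      intro h0
      rw [Multiset.mem_map] at h0
      obtain ⟨i, -, hi⟩ := h0
      exact hγ0 i hi) hinv (by rw [← hprod]; rfl)
  refine ⟨α, ?_, ?_, hpair⟩
  · intro i
    have h1 : α i ∈ Multiset.map γ Finset.univ.val := by
      rw [← hα]
      exact Multiset.mem_map_of_mem α (Finset.mem_univ i)
    rw [hγm] at h1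
    refine ⟨R, hRmonic, ?_⟩
    have h2 := (Polynomial.mem_roots'.1 h1).2
    rw [Polynomial.IsRoot.def, Polynomial.eval_map] at h2
    exact h2
  · rw [hPprod]
    have h1 : ∀ δ : Fin (2 * g) → ℂ, ∏ i, (1 - Polynomial.C (δ i) * Polynomial.X) =
        ((Multiset.map δ Finset.univ.val).map
          (fun x : ℂ => (1 - Polynomial.C x * Polynomial.X))).prod := by
      intro δ
      rw [Multiset.map_map]
      rfl
    rw [h1, h1, hα]

end Main

end K663.Roots
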