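import Groth.Agent.MiscA.ZetaCrv

/-!
# Zeta function of an abstract curve over a finite field: class number formula, functional equation

For `C : Crv k K X` over a finite field with `q` elements, `C.Fin`, `C.l 0 = 1` and a divisor of degree one.
-/

set_option autoImplicit false

namespace K663.ZetaFun

open Groth.Agent.Models.FFRR Groth.Agent.Models.FFRR.Crv Groth.Agent.MiscA WithZero
open Groth.Agent.MiscA.ZetaCrv (prin)

variable {k K X : Type*} [Field k] [Field K] [Algebra k K] {C : Crv k K X}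

theorem degZ_prin (hC : C.Fin) : ∀ D ∈ prin C, ZetaAbs.degZ C.dg0 D = 0 := by
  rintro _ ⟨f, hf, rfl⟩
  rw [ZetaCrv.degZ_eq]
  exact hC.deg_div hf

/-- divisor classes of degree `n` -/
abbrev Cl (hC : C.Fin) (n : ℤ) : Type _ := ZetaAbs.ClN C.dg0 (prin C) (degZ_prin hC) n

theorem l_congr {D E : X →₀ ℤ} (h : D - E ∈ prin C) : C.l D = C.l E := by
  obtain ⟨f, hf, hfe⟩ := h
  have : D = E + C.div f := by rw [hfe]; abel
  rw [this, C.l_add_div hf]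

/-- `l` of a class -/
noncomputable def lCl (c : (X →₀ ℤ) ⧸ prin C) : ℕ := C.l (Quotient.out c)

theorem lCl_mk (D : X →₀ ℤ) : lCl (C := C) (D : (X →₀ ℤ) ⧸ prin C) = C.l D := by
  unfold lCl
  apply l_congr
  rw [← QuotientAddGroup.eq_iff_sub_mem]
  exact QuotientAddGroup.out_eq' _

theorem degHom_eq (D : X →₀ ℤ) : ZetaAbs.degHom C.dg0 D = C.deg D := by
  rw [ZetaAbs.degHom_apply, ZetaCrv.degZ_eq]

/-- the zeta series of the abstract curve -/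
noncomputable def Z (C : Crv k K X) : PowerSeries ℤ := PowerSeries.mk fun n => (ZetaAbsCount.A C.dg0 n : ℤ)

/-- numerator of the zeta series of the abstract curve -/
noncomputable def PS (C : Crv k K X) : PowerSeries ℤ :=
  (1 - PowerSeries.X) * (1 - PowerSeries.C (Nat.card k : ℤ) * PowerSeries.X) * Z C

open PowerSeries in
theorem PS_eq (C : Crv k K X) : PS C = Z C - PowerSeries.C ((Nat.card k : ℤ) + 1) * (PowerSeries.X * Z C) +
      PowerSeries.C (Nat.card k : ℤ) * (PowerSeries.X * (PowerSeries.X * Z C)) := by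
    simp only [PS, map_add, map_one]
    ring

variable [Finite k] [Nonempty X]

/-- The class number. -/
noncomputable def hh (hC : C.Fin) : ℕ := Nat.card (Cl hC 0)

/-- `∑ q ^ l(c)` over the classes of degree `n` -/
noncomputable def S (hC : C.Fin) (n : ℤ) : ℚ := ∑ᶠ c : Cl hC n, (Nat.card k : ℚ) ^ (lCl c.1)

theorem finite_Cl (hC : C.Fin) (h1 : C.l 0 = 1) {D₁ : X →₀ ℤ} (hD₁ : C.deg D₁ = 1) (n : ℤ) :
    Finite (Cl hC n) := by
  have hq : 2 ≤ Nat.card k := Finite.one_lt_card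
  refine ZetaAbs.finite_ClN C.dg0 hC.dg0_pos (ZetaCrv.finite_places hC h1) (Nat.card k) (C.i 0) hq
    (prin C) (degZ_prin hC) C.l (ZetaCrv.card_linearSystem hC h1) ?_ D₁ (by rw [degHom_eq, hD₁]) n
  intro D
  rw [ZetaCrv.degZ_eq]
  exact hC.le_l h1 D

omit [Finite k] [Nonempty X] in
theorem card_Cl (hC : C.Fin) {D₁ : X →₀ ℤ} (hD₁ : C.deg D₁ = 1) (n : ℤ) :
    Nat.card (Cl hC n) = hh hC :=
  Nat.card_congr (ZetaAbs.translateEquiv C.dg0 (prin C) (degZ_prin hC) D₁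
    (by rw [degHom_eq, hD₁]) n 0)

theorem hh_pos (hC : C.Fin) (h1 : C.l 0 = 1) {D₁ : X →₀ ℤ} (hD₁ : C.deg D₁ = 1) : 0 < hh hC := by
  have := finite_Cl hC h1 hD₁ 0
  have : Nonempty (Cl hC 0) := ⟨⟨0, map_zero _⟩⟩
  exact Nat.card_pos

omit [Finite k] [Nonempty X] in
theorem degCl_eq (hC : C.Fin) (n : ℤ) (c : Cl hC n) : C.deg (Quotient.out c.1) = n := by
  rw [← degHom_eq, ← ZetaAbs.degCl_mk C.dg0 (prin C) (degZ_prin hC), QuotientAddGroup.out_eq', c.2]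

/-- `(q - 1) A_n + h = S(n)`. -/
theorem A_formula (hC : C.Fin) (h1 : C.l 0 = 1) {D₁ : X →₀ ℤ} (hD₁ : C.deg D₁ = 1) (n : ℕ) :
    ((Nat.card k : ℚ) - 1) * ZetaAbsCount.A C.dg0 n + hh hC = S hC n := by
  have := finite_Cl hC h1 hD₁ n
  have : Fintype (Cl hC (n : ℤ)) := Fintype.ofFinite _
  have h2 := ZetaAbs.A_mul_add C.dg0 hC.dg0_pos (ZetaCrv.finite_places hC h1) (Nat.card k)
    (prin C) (degZ_prin hC) C.l (ZetaCrv.card_linearSystem hC h1) n (fun c => Quotient.out c.1)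
      (fun c => (QuotientAddGroup.out_eq' c.1).symm)
  unfold S
  rw [finsum_eq_sum_of_fintype]
  have h3 := congrArg (Nat.cast : ℕ → ℚ) h2
  have hq : 1 ≤ Nat.card k := Finite.card_pos
  have h4 : Nat.card (ZetaAbs.ClN C.dg0 (prin C) (degZ_prin hC) n) = hh hC := card_Cl hC hD₁ n
  rw [h4] at h3
  push_cast [Nat.cast_sub hq] at h3
  rw [mul_comm]
  exact h3

theorem S_neg (hC : C.Fin) {D₁ : X →₀ ℤ} (h1 : C.l 0 = 1) (hD₁ : C.deg D₁ = 1) {n : ℤ}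
    (hn : n < 0) : S hC n = hh hC := by
  have := finite_Cl hC h1 hD₁ n
  have : Fintype (Cl hC n) := Fintype.ofFinite _
  unfold S
  rw [finsum_eq_sum_of_fintype, ← card_Cl hC hD₁ n, Nat.card_eq_fintype_card (α := Cl hC n),
    Fintype.card, Finset.card_eq_sum_ones]
  push_cast
  refine Finset.sum_congr rfl fun c _ => ?_
  unfold lCl
  rw [hC.l_eq_zero_of_deg_neg (by rw [degCl_eq]; exact hn), pow_zero]

theorem S_large (hC : C.Fin) {D₁ : X →₀ ℤ} (h1 : C.l 0 = 1) (hD₁ : C.deg D₁ = 1) {n : ℤ}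
    (hn : 2 * (C.i 0 : ℤ) - 2 < n) :
    S hC n = hh hC * (Nat.card k : ℚ) ^ (n + 1 - (C.i 0 : ℤ)) := by
  have := finite_Cl hC h1 hD₁ n
  have : Fintype (Cl hC n) := Fintype.ofFinite _
  unfold S
  rw [finsum_eq_sum_of_fintype, ← card_Cl hC hD₁ n, Nat.card_eq_fintype_card (α := Cl hC n),
    Fintype.card, Finset.card_eq_sum_ones]
  push_cast
  rw [Finset.sum_mul]
  refine Finset.sum_congr rfl fun c _ => ?_
  rw [one_mul, ← zpow_natCast]
  congr 1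
  have h2 := hC.l_eq h1 (D := Quotient.out c.1) (by rw [degCl_eq]; exact hn)
  rw [degCl_eq] at h2
  exact h2

/-- The duality between classes of degree `n` and `2 g - 2 - n`. -/
noncomputable def dualEquiv (hC : C.Fin) {W : X →₀ ℤ} {w : ℤ} (hW : C.deg W = w) (n : ℤ) :
    Cl hC n ≃ Cl hC (w - n) where
  toFun c := ⟨(W : (X →₀ ℤ) ⧸ prin C) - c.1, by
    rw [map_sub, c.2, ZetaAbs.degCl_mk, degHom_eq, hW]⟩
  invFun c := ⟨(W : (X →₀ ℤ) ⧸ prin C) - c.1, by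
    rw [map_sub, c.2, ZetaAbs.degCl_mk, degHom_eq, hW]; ring⟩
  left_inv c := by
    apply Subtype.ext
    change (W : (X →₀ ℤ) ⧸ prin C) - (W - c.1) = c.1
    abel
  right_inv c := by
    apply Subtype.ext
    change (W : (X →₀ ℤ) ⧸ prin C) - (W - c.1) = c.1
    abel

/-- Functional equation for `S`. -/
theorem S_dual (hC : C.Fin) (h1 : C.l 0 = 1) (n : ℤ) :
    S hC n = (Nat.card k : ℚ) ^ (n + 1 - (C.i 0 : ℤ)) * S hC (2 * (C.i 0 : ℤ) - 2 - n) := by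
  obtain ⟨W, hW, -, -, hRR⟩ := hC.riemann_roch h1
  have hq : (Nat.card k : ℚ) ≠ 0 := by
    have : 0 < Nat.card k := Finite.card_pos
    positivity
  unfold S
  rw [← smul_eq_mul, smul_finsum]
  refine finsum_eq_of_bijective (dualEquiv hC hW n) (dualEquiv hC hW n).bijective ?_
  intro c
  obtain ⟨D, hD⟩ := QuotientAddGroup.mk_surjective c.1
  change (Nat.card k : ℚ) ^ lCl c.1 = _ • (Nat.card k : ℚ) ^ lCl ((W : (X →₀ ℤ) ⧸ prin C) - c.1)
  have h2 : C.deg D = n := by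
    rw [← degHom_eq, ← ZetaAbs.degCl_mk C.dg0 (prin C) (degZ_prin hC), hD, c.2]
  rw [← hD, ← QuotientAddGroup.mk_sub, lCl_mk, lCl_mk, smul_eq_mul, ← zpow_natCast, ← zpow_natCast,
    ← zpow_add₀ hq, hRR D, h2]

/-- the coefficients of the numerator of the zeta function -/
noncomputable def a (hC : C.Fin) (n : ℤ) : ℚ :=
  (S hC n - ((Nat.card k : ℚ) + 1) * S hC (n - 1) + (Nat.card k : ℚ) * S hC (n - 2)) /
    ((Nat.card k : ℚ) - 1)

theorem q_sub_one_ne_zero (k : Type*) [Field k] [Finite k] : (Nat.card k : ℚ) - 1 ≠ 0 := by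
  have hq : 2 ≤ Nat.card k := Finite.one_lt_card
  have : (2 : ℚ) ≤ (Nat.card k : ℚ) := by exact_mod_cast hq
  linarith

theorem a_neg (hC : C.Fin) {D₁ : X →₀ ℤ} (h1 : C.l 0 = 1) (hD₁ : C.deg D₁ = 1) {n : ℤ}
    (hn : n < 0) : a hC n = 0 := by
  unfold a
  rw [S_neg hC h1 hD₁ hn, S_neg hC h1 hD₁ (show n - 1 < 0 by omega),
    S_neg hC h1 hD₁ (show n - 2 < 0 by omega)]
  have : (hh hC : ℚ) - ((Nat.card k : ℚ) + 1) * hh hC + Nat.card k * hh hC = 0 := by ring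
  rw [this, zero_div]

theorem a_dual (hC : C.Fin) (h1 : C.l 0 = 1) (n : ℤ) :
    a hC (2 * (C.i 0 : ℤ) - n) = (Nat.card k : ℚ) ^ ((C.i 0 : ℤ) - n) * a hC n := by
  have hq : (Nat.card k : ℚ) ≠ 0 := by
    have : 0 < Nat.card k := Finite.card_pos
    positivity
  unfold a
  rw [S_dual hC h1 (2 * (C.i 0 : ℤ) - n), S_dual hC h1 (2 * (C.i 0 : ℤ) - n - 1),
    S_dual hC h1 (2 * (C.i 0 : ℤ) - n - 2)]
  have e1 : 2 * (C.i 0 : ℤ) - 2 - (2 * (C.i 0 : ℤ) - n) = n - 2 := by ring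
  have e2 : 2 * (C.i 0 : ℤ) - 2 - (2 * (C.i 0 : ℤ) - n - 1) = n - 1 := by ring
  have e3 : 2 * (C.i 0 : ℤ) - 2 - (2 * (C.i 0 : ℤ) - n - 2) = n := by ring
  rw [e1, e2, e3]
  have f1 : (Nat.card k : ℚ) ^ (2 * (C.i 0 : ℤ) - n + 1 - (C.i 0 : ℤ)) =
      (Nat.card k : ℚ) ^ ((C.i 0 : ℤ) - n) * Nat.card k := by
    rw [← zpow_add_one₀ hq]; congr 1; ring
  have f2 : (Nat.card k : ℚ) ^ (2 * (C.i 0 : ℤ) - n - 1 + 1 - (C.i 0 : ℤ)) =
      (Nat.card k : ℚ) ^ ((C.i 0 : ℤ) - n) := by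
    congr 1; ring
  have f3 : (Nat.card k : ℚ) * ((Nat.card k : ℚ) ^ (2 * (C.i 0 : ℤ) - n - 2 + 1 - (C.i 0 : ℤ))) =
      (Nat.card k : ℚ) ^ ((C.i 0 : ℤ) - n) := by
    rw [← zpow_one_add₀ hq]; congr 1; ring
  rw [f1, f2, ← mul_assoc (Nat.card k : ℚ), f3]
  ring

omit [Finite k] [Nonempty X] in
open PowerSeries in
theorem coeff_zero_PS (hC : C.Fin) : PowerSeries.coeff 0 (PS C) = 1 := by
  rw [PS_eq]
  simp [Z, ZetaAbsCount.A_zero C.dg0 hC.dg0_pos]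

open PowerSeries in
theorem coeff_PS (hC : C.Fin) {D₁ : X →₀ ℤ} (h1 : C.l 0 = 1) (hD₁ : C.deg D₁ = 1) (n : ℕ) :
    ((PowerSeries.coeff n (PS C) : ℤ) : ℚ) = a hC n := by
  have hq := q_sub_one_ne_zero k
  have hA : ∀ m : ℕ, S hC m = ((Nat.card k : ℚ) - 1) * ZetaAbsCount.A C.dg0 m + hh hC :=
    fun m => (A_formula hC h1 hD₁ m).symm
  unfold a
  rw [eq_div_iff hq]
  rcases n with _ | _ | n
  · rw [coeff_zero_PS hC]
    rw [show ((0 : ℕ) : ℤ) = 0 from rfl, S_neg hC h1 hD₁ (show (0 : ℤ) - 1 < 0 by omega),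
      S_neg hC h1 hD₁ (show (0 : ℤ) - 2 < 0 by omega)]
    have h2 := hA 0
    rw [ZetaAbsCount.A_zero C.dg0 hC.dg0_pos, Nat.cast_zero] at h2
    rw [h2]
    push_cast
    ring
  · have c1 : PowerSeries.coeff 1 (PS C) = ZetaAbsCount.A C.dg0 1 - (Nat.card k + 1) := by
      rw [PS_eq, map_add, map_sub, coeff_C_mul, coeff_C_mul,
        show (1 : ℕ) = 0 + 1 from rfl, coeff_succ_X_mul, coeff_succ_X_mul]
      simp [Z, ZetaAbsCount.A_zero C.dg0 hC.dg0_pos]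
    rw [zero_add, c1, show ((1 : ℕ) : ℤ) - 1 = ((0 : ℕ) : ℤ) from rfl,
      S_neg hC h1 hD₁ (show ((1 : ℕ) : ℤ) - 2 < 0 by norm_num), hA 1, hA 0,
      ZetaAbsCount.A_zero C.dg0 hC.dg0_pos]
    push_cast
    ring
  · have c2 : PowerSeries.coeff (n + 2) (PS C) = ZetaAbsCount.A C.dg0 (n + 2) -
        (Nat.card k + 1) * ZetaAbsCount.A C.dg0 (n + 1) + Nat.card k * ZetaAbsCount.A C.dg0 n := by
      rw [PS_eq, map_add, map_sub, coeff_C_mul, coeff_C_mul, coeff_succ_X_mul, coeff_succ_X_mul,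
        coeff_succ_X_mul]
      simp [Z]
    rw [show n + 1 + 1 = n + 2 from rfl, c2,
      show ((n + 2 : ℕ) : ℤ) - 1 = ((n + 1 : ℕ) : ℤ) by push_cast; ring,
      show ((n + 2 : ℕ) : ℤ) - 2 = (n : ℤ) by push_cast; ring, hA, hA, hA]
    push_cast
    ring

theorem coeff_PS_eq_zero (hC : C.Fin) {D₁ : X →₀ ℤ} (h1 : C.l 0 = 1) (hD₁ : C.deg D₁ = 1) (n : ℕ)
    (hn : 2 * C.i 0 < n) : PowerSeries.coeff n (PS C) = 0 := by
  have h2 := coeff_PS hC h1 hD₁ n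
  have h3 : (n : ℤ) = 2 * (C.i 0 : ℤ) - (2 * (C.i 0 : ℤ) - n) := by ring
  rw [h3, a_dual hC h1, a_neg hC h1 hD₁ (by omega), mul_zero] at h2
  exact_mod_cast h2

theorem coeff_PS_dual (hC : C.Fin) {D₁ : X →₀ ℤ} (h1 : C.l 0 = 1) (hD₁ : C.deg D₁ = 1) (i : ℕ)
    (hi : i ≤ 2 * C.i 0) : ((PowerSeries.coeff (2 * C.i 0 - i) (PS C) : ℤ) : ℚ) =
      (Nat.card k : ℚ) ^ ((C.i 0 : ℤ) - i) * ((PowerSeries.coeff i (PS C) : ℤ) : ℚ) := by
  rw [coeff_PS hC h1 hD₁, coeff_PS hC h1 hD₁, ← a_dual hC h1]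
  congr 1
  push_cast [Nat.cast_sub hi]
  ring

theorem coeff_PS_top (hC : C.Fin) {D₁ : X →₀ ℤ} (h1 : C.l 0 = 1) (hD₁ : C.deg D₁ = 1) :
    PowerSeries.coeff (2 * C.i 0) (PS C) = (Nat.card k : ℤ) ^ (C.i 0) := by
  have h2 := coeff_PS_dual hC h1 hD₁ 0 (Nat.zero_le _)
  rw [coeff_zero_PS hC, Nat.sub_zero, Nat.cast_zero, sub_zero, Int.cast_one, mul_one,
    zpow_natCast] at h2
  exact_mod_cast h2

/-- `∑ aᵢ = h`. -/
theorem sum_a (hC : C.Fin) {D₁ : X →₀ ℤ} (h1 : C.l 0 = 1) (hD₁ : C.deg D₁ = 1) (m : ℕ) :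
    ∑ n ∈ Finset.range m, a hC n = (S hC ((m : ℤ) - 1) - (Nat.card k : ℚ) * S hC ((m : ℤ) - 2) +
      ((Nat.card k : ℚ) - 1) * hh hC) / ((Nat.card k : ℚ) - 1) := by
  have hq := q_sub_one_ne_zero k
  induction m with
  | zero =>
    rw [Finset.sum_range_zero, S_neg hC h1 hD₁ (by norm_num), S_neg hC h1 hD₁ (by norm_num)]
    rw [eq_div_iff hq]
    ring
  | succ m ih =>
    rw [Finset.sum_range_succ, ih]
    unfold a
    rw [← add_div]
    congr 1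
    rw [show ((m + 1 : ℕ) : ℤ) - 1 = m by push_cast; ring,
      show ((m + 1 : ℕ) : ℤ) - 2 = (m : ℤ) - 1 by push_cast; ring]
    ring

theorem sum_a_eq (hC : C.Fin) {D₁ : X →₀ ℤ} (h1 : C.l 0 = 1) (hD₁ : C.deg D₁ = 1) (m : ℕ)
    (hm : 2 * C.i 0 < m) : ∑ n ∈ Finset.range m, a hC n = hh hC := by
  have hq := q_sub_one_ne_zero k
  have hq0 : (Nat.card k : ℚ) ≠ 0 := by
    have : 0 < Nat.card k := Finite.card_pos
    positivity
  rw [sum_a hC h1 hD₁, S_large hC h1 hD₁ (by omega), S_large hC h1 hD₁ (by omega), div_eq_iff hq]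
  have f1 : (Nat.card k : ℚ) ^ ((m : ℤ) - 1 + 1 - (C.i 0 : ℤ)) =
      Nat.card k * (Nat.card k : ℚ) ^ ((m : ℤ) - 2 + 1 - (C.i 0 : ℤ)) := by
    rw [← zpow_one_add₀ hq0]; congr 1; ring
  rw [f1]
  ring

/-- the numerator as a polynomial -/
theorem exists_polynomial (hC : C.Fin) {D₁ : X →₀ ℤ} (h1 : C.l 0 = 1) (hD₁ : C.deg D₁ = 1) :
    ∃ p : Polynomial ℤ, (p : PowerSeries ℤ) = PS C ∧ p.natDegree = 2 * C.i 0 := by
  have h2 : ((PowerSeries.trunc (2 * C.i 0 + 1) (PS C) : Polynomial ℤ) : PowerSeries ℤ) = PS C := by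
    ext n
    rw [Polynomial.coeff_coe, PowerSeries.coeff_trunc]
    split_ifs with h2
    · rfl
    · exact (coeff_PS_eq_zero hC h1 hD₁ n (by omega)).symm
  refine ⟨PowerSeries.trunc (2 * C.i 0 + 1) (PS C), h2, ?_⟩
  apply le_antisymm
  · rw [Polynomial.natDegree_le_iff_coeff_eq_zero]
    intro n hn
    rw [← Polynomial.coeff_coe, h2, coeff_PS_eq_zero hC h1 hD₁ n hn]
  · apply Polynomial.le_natDegree_of_ne_zero
    rw [← Polynomial.coeff_coe, h2, coeff_PS_top hC h1 hD₁]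
    have : 0 < Nat.card k := Finite.card_pos
    positivity

theorem eval_one (hC : C.Fin) {D₁ : X →₀ ℤ} (h1 : C.l 0 = 1) (hD₁ : C.deg D₁ = 1)
    (p : Polynomial ℤ) (hp : (p : PowerSeries ℤ) = PS C) : p.eval 1 = (hh hC : ℤ) := by
  have h2 : p.natDegree < 2 * C.i 0 + 1 := by
    rw [Nat.lt_succ_iff, Polynomial.natDegree_le_iff_coeff_eq_zero]
    intro n hn
    rw [← Polynomial.coeff_coe, hp, coeff_PS_eq_zero hC h1 hD₁ n hn]
  rw [Polynomial.eval_eq_sum_range' h2]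
  have h3 := sum_a_eq hC h1 hD₁ (2 * C.i 0 + 1) (Nat.lt_succ_self _)
  have h4 : ((∑ i ∈ Finset.range (2 * C.i 0 + 1), p.coeff i * 1 ^ i : ℤ) : ℚ) = (hh hC : ℚ) := by
    rw [← h3]
    push_cast
    refine Finset.sum_congr rfl fun i _ => ?_
    rw [one_pow, mul_one, ← Polynomial.coeff_coe, hp, coeff_PS hC h1 hD₁]
  exact_mod_cast h4

end K663.ZetaFun
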