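import Groth.Agent.FunFld.K663.Bridge
import Groth.Agent.FunFld.K663.ZetaFun
import Groth.Agent.FunFld.K663.Roots
import Groth.Agent.Cohder.HWMain

/-!
# Zeta functions of function fields of one variable over finite fields, in the language of `FunFld`
-/

set_option autoImplicit false

namespace K663.Main

open Groth.Agent.Models.FFRR Groth.Agent.MiscA K663.Bridge K663.ZetaFun
open Groth.Agent.MiscA.WCPlace (IsSep)

universe u v

variable {k : Type u} {K : Type v} [Field k] [Finite k] [Field K] [Algebra k K]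

/-- growth bound -/
theorem growth (h : ∃ t : K, IsSep k K t)
    (hk : ∀ x : K, IsAlgebraic k x → x ∈ Set.range (algebraMap k K)) :
    ∃ c : ℝ, ∀ n : ℕ, 1 ≤ n → |(ZetaAbsCount.N (crvF h).dg0 n : ℝ) - (Nat.card k : ℝ) ^ n| ≤
      c * Real.sqrt (Nat.card k) ^ n := by
  obtain ⟨c, hc⟩ := Groth.Agent.Cohder.HWMain.main hk h
  refine ⟨c, fun n hn => ?_⟩
  rw [N_eq]
  exact hc n hn

/-- There is a divisor of degree one (F. K. Schmidt). -/
theorem exists_deg_one (h : ∃ t : K, IsSep k K t)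
    (hk : ∀ x : K, IsAlgebraic k x → x ∈ Set.range (algebraMap k K)) :
    ∃ D, (crvF h).deg D = 1 := by
  obtain ⟨c, hc⟩ := growth h hk
  obtain ⟨D, hD⟩ := ZetaAbs.exists_degHom_eq_one (crvF h).dg0 (Nat.card k) Finite.one_lt_card c hc
  exact ⟨D, by rw [← ZetaFun.degHom_eq, hD]⟩

omit [Finite k] in
theorem zetaZ_eq (h : ∃ t : K, IsSep k K t) : FunFld.zetaZ k K = Z (crvF h) := by
  ext n
  unfold FunFld.zetaZ Z
  rw [PowerSeries.coeff_mk, PowerSeries.coeff_mk, effDivCount_eq h]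

omit [Finite k] in
theorem numerZ_eq (h : ∃ t : K, IsSep k K t) : FunFld.numerZ k K = PS (crvF h) := by
  unfold FunFld.numerZ PS
  rw [zetaZ_eq h]

/-- classes of degree zero: kernel of the degree modulo principal divisors -/
noncomputable def clEquiv (h : ∃ t : K, IsSep k K t) :
    ((FunFld.degHom k K).ker ⧸ (FunFld.prinDivs k K).addSubgroupOf (FunFld.degHom k K).ker) ≃
      Cl (crvF_fin h) 0 := by
  have hP := prinDivs_eq h
  refine Equiv.ofBijective (fun c => Quotient.liftOn c (fun D => (⟨((D : FunFld.Divisor k K) :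
    (FunFld.Place k K →₀ ℤ) ⧸ ZetaCrv.prin (crvF h)), ?_⟩ : Cl (crvF_fin h) 0)) ?_) ⟨?_, ?_⟩
  · rw [ZetaAbs.degCl_mk, ZetaFun.degHom_eq, ← Bridge.degHom_eq]
    exact D.2
  · intro D E hDE
    apply Subtype.ext
    change ((D : FunFld.Divisor k K) : (FunFld.Place k K →₀ ℤ) ⧸ ZetaCrv.prin (crvF h)) =
      ((E : FunFld.Divisor k K) : (FunFld.Place k K →₀ ℤ) ⧸ ZetaCrv.prin (crvF h))
    rw [QuotientAddGroup.eq, ← hP]
    have h1 : -D + E ∈ (FunFld.prinDivs k K).addSubgroupOf (FunFld.degHom k K).ker :=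
      QuotientAddGroup.leftRel_apply.1 hDE
    exact h1
  · intro c d
    induction c using QuotientAddGroup.induction_on with
    | H D =>
    induction d using QuotientAddGroup.induction_on with
    | H E =>
    intro hcd
    have h1 : ((D : FunFld.Divisor k K) : (FunFld.Place k K →₀ ℤ) ⧸ ZetaCrv.prin (crvF h)) =
      ((E : FunFld.Divisor k K) : (FunFld.Place k K →₀ ℤ) ⧸ ZetaCrv.prin (crvF h)) :=
        congrArg Subtype.val hcd
    rw [QuotientAddGroup.eq, ← hP] at h1
    rw [QuotientAddGroup.eq]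
    exact h1
  · intro c
    obtain ⟨D, hD⟩ := QuotientAddGroup.mk_surjective c.1
    have h2 : D ∈ (FunFld.degHom k K).ker := by
      rw [AddMonoidHom.mem_ker, Bridge.degHom_eq h, ← ZetaFun.degHom_eq,
        ← ZetaAbs.degCl_mk (crvF h).dg0 (ZetaCrv.prin (crvF h)) (degZ_prin (crvF_fin h)), hD, c.2]
    refine ⟨((⟨D, h2⟩ : (FunFld.degHom k K).ker) : (FunFld.degHom k K).ker ⧸
      (FunFld.prinDivs k K).addSubgroupOf (FunFld.degHom k K).ker), ?_⟩
    apply Subtype.ext
    exact hD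

omit [Finite k] in
theorem classNum_eq (h : ∃ t : K, IsSep k K t) : FunFld.classNum k K = hh (crvF_fin h) := by
  unfold FunFld.classNum hh
  exact Nat.card_congr (clEquiv h)

/-- Bundle of the basic facts. -/
theorem coeff_zero (hK : FunFld.IsFunctionField k K) :
    PowerSeries.coeff 0 (FunFld.numerZ k K) = 1 := by
  have h := exists_isSep hK
  rw [numerZ_eq h]
  exact coeff_zero_PS (crvF_fin h)

theorem functional_equation (hK : FunFld.IsFunctionField k K) :
    (∀ n : ℕ, 2 * FunFld.genus k K < n → PowerSeries.coeff n (FunFld.numerZ k K) = 0) ∧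
    PowerSeries.coeff (2 * FunFld.genus k K) (FunFld.numerZ k K) ≠ 0 ∧
    ∀ i : ℕ, i ≤ 2 * FunFld.genus k K →
      (((PowerSeries.coeff (2 * FunFld.genus k K - i) (FunFld.numerZ k K) : ℤ)) : ℚ) =
        (Nat.card k : ℚ) ^ ((FunFld.genus k K : ℤ) - i) *
          (((PowerSeries.coeff i (FunFld.numerZ k K) : ℤ)) : ℚ) := by
  have h := exists_isSep hK
  have hne := nonempty_place h
  have h1 := l_zero h hK.2
  obtain ⟨D₁, hD₁⟩ := exists_deg_one h hK.2
  rw [numerZ_eq h, genus_eq h hK.2]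
  refine ⟨fun n hn => coeff_PS_eq_zero (crvF_fin h) h1 hD₁ n hn, ?_, fun i hi =>
    coeff_PS_dual (crvF_fin h) h1 hD₁ i hi⟩
  rw [coeff_PS_top (crvF_fin h) h1 hD₁]
  have : 0 < Nat.card k := Finite.card_pos
  positivity

theorem exists_polynomial (hK : FunFld.IsFunctionField k K) :
    ∃ p : Polynomial ℤ, (p : PowerSeries ℤ) = FunFld.numerZ k K ∧ p.natDegree = 2 * FunFld.genus k K := by
  have h := exists_isSep hK
  have hne := nonempty_place h
  have h1 := l_zero h hK.2
  obtain ⟨D₁, hD₁⟩ := exists_deg_one h hK.2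
  rw [numerZ_eq h, genus_eq h hK.2]
  exact ZetaFun.exists_polynomial (crvF_fin h) h1 hD₁

/-- Number of points over the extension of degree `n`. -/
noncomputable def NN (k : Type u) (K : Type v) [Field k] [Field K] [Algebra k K] (n : ℕ) : ℕ :=
  ∑ d ∈ n.divisors, d * Nat.card {P : FunFld.Place k K // P.deg = d}

theorem logD_numerZ (hK : FunFld.IsFunctionField k K) :
    ZetaAbsCx.LogD (FunFld.numerZ k K)
      (PowerSeries.mk fun n => if n = 0 then 0 else (NN k K n : ℤ) - (Nat.card k : ℤ) ^ n - 1) := by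
  have h := exists_isSep hK
  have hne := nonempty_place h
  have h1 := l_zero h hK.2
  have hN : NN k K = ZetaAbsCount.N (crvF h).dg0 := by
    funext n
    rw [N_eq']
    rfl
  rw [numerZ_eq h, hN]
  exact Roots.logD_numer (ZetaAbsCount.logD_zeta (crvF h).dg0 (crvF_fin h).dg0_pos
    (ZetaCrv.finite_places (crvF_fin h) h1))

/-- power sums of inverse roots -/
theorem NN_eq_of_prod (hK : FunFld.IsFunctionField k K) {m : ℕ} (α : Fin m → ℂ)
    (hα : PowerSeries.map (Int.castRingHom ℂ) (FunFld.numerZ k K) =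
      ((∏ i, (1 - Polynomial.C (α i) * Polynomial.X) : Polynomial ℂ) : PowerSeries ℂ)) (n : ℕ)
    (hn : 1 ≤ n) : (NN k K n : ℂ) = (Nat.card k : ℂ) ^ n + 1 - ∑ i, α i ^ n := by
  have h1 := Roots.sum_of_prod α (logD_numerZ hK) hα n hn
  push_cast at h1
  linear_combination h1

theorem prod_of_NN_eq (hK : FunFld.IsFunctionField k K) {m : ℕ} (α : Fin m → ℂ)
    (hα : ∀ n : ℕ, 1 ≤ n → (NN k K n : ℂ) = (Nat.card k : ℂ) ^ n + 1 - ∑ i, α i ^ n) :
    PowerSeries.map (Int.castRingHom ℂ) (FunFld.numerZ k K) =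
      ((∏ i, (1 - Polynomial.C (α i) * Polynomial.X) : Polynomial ℂ) : PowerSeries ℂ) := by
  refine Roots.prod_of_sum α (logD_numerZ hK) (coeff_zero hK) ?_
  intro n hn
  push_cast
  linear_combination hα n hn

/-- Any enumeration of the inverse roots has absolute values `sqrt q`. -/
theorem norm_alpha (hK : FunFld.IsFunctionField k K) (α : Fin (2 * FunFld.genus k K) → ℂ)
    (hα : PowerSeries.map (Int.castRingHom ℂ) (FunFld.numerZ k K) =
      ((∏ i, (1 - Polynomial.C (α i) * Polynomial.X) : Polynomial ℂ) : PowerSeries ℂ))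
    (hp : ∀ i, α i * α (Fin.rev i) = (Nat.card k : ℂ)) (i : Fin (2 * FunFld.genus k K)) :
    ‖α i‖ ^ 2 = Nat.card k := by
  have h := exists_isSep hK
  obtain ⟨c, hc⟩ := growth h hK.2
  have hq : 2 ≤ Nat.card k := Finite.one_lt_card
  have hN : NN k K = ZetaAbsCount.N (crvF h).dg0 := by
    funext n
    rw [N_eq']
    rfl
  have hq0 : (0 : ℝ) < Real.sqrt (Nat.card k) := Real.sqrt_pos.mpr (by positivity)
  have hq1 : (1 : ℝ) ≤ Real.sqrt (Nat.card k) := by
    rw [Real.one_le_sqrt]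
    exact_mod_cast (by omega : 1 ≤ Nat.card k)
  have hle : ∀ i, ‖α i‖ ≤ Real.sqrt (Nat.card k) := by
    refine ZetaAbsCx.norm_le_of_sum_pow_le α (Real.sqrt (Nat.card k)) (|c| + 1) hq0 ?_
    intro n hn
    have h1 : ∑ i, α i ^ n = 1 - ((NN k K n : ℂ) - (Nat.card k : ℂ) ^ n) := by
      rw [NN_eq_of_prod hK α hα n hn]; ring
    rw [h1]
    refine (norm_sub_le _ _).trans ?_
    have h2 : ‖(NN k K n : ℂ) - (Nat.card k : ℂ) ^ n‖ = |(NN k K n : ℝ) - (Nat.card k : ℝ) ^ n| := by
      rw [← Real.norm_eq_abs, ← Complex.norm_real]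
      push_cast
      rfl
    rw [h2, norm_one]
    have h3 := hc n hn
    rw [← hN] at h3
    have h4 : (1 : ℝ) ≤ Real.sqrt (Nat.card k) ^ n := one_le_pow₀ hq1
    have h5 : c * Real.sqrt (Nat.card k) ^ n ≤ |c| * Real.sqrt (Nat.card k) ^ n :=
      mul_le_mul_of_nonneg_right (le_abs_self c) (by positivity)
    nlinarith
  have h1 : ‖α i‖ * ‖α (Fin.rev i)‖ = Nat.card k := by
    rw [← norm_mul, hp i, Complex.norm_natCast]
  have h2 : Real.sqrt (Nat.card k) * Real.sqrt (Nat.card k) = Nat.card k :=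
    Real.mul_self_sqrt (by positivity)
  have h3 : Real.sqrt (Nat.card k) ≤ ‖α i‖ := by
    by_contra h4
    push Not at h4
    have h5 : ‖α i‖ * ‖α (Fin.rev i)‖ < Real.sqrt (Nat.card k) * Real.sqrt (Nat.card k) := by
      calc ‖α i‖ * ‖α (Fin.rev i)‖ ≤ ‖α i‖ * Real.sqrt (Nat.card k) :=
            mul_le_mul_of_nonneg_left (hle _) (norm_nonneg _)
        _ < _ := mul_lt_mul_of_pos_right h4 hq0
    rw [h1, h2] at h5
    exact lt_irrefl _ h5
  rw [le_antisymm (hle i) h3, Real.sq_sqrt (by positivity)]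

theorem exists_alpha (hK : FunFld.IsFunctionField k K) :
    ∃ α : Fin (2 * FunFld.genus k K) → ℂ, (∀ i, IsIntegral ℤ (α i)) ∧
      PowerSeries.map (Int.castRingHom ℂ) (FunFld.numerZ k K) =
        ((∏ i, (1 - Polynomial.C (α i) * Polynomial.X) : Polynomial ℂ) : PowerSeries ℂ) ∧
      ∀ i, α i * α (Fin.rev i) = (Nat.card k : ℂ) := by
  obtain ⟨h1, h2, h3⟩ := functional_equation hK
  obtain ⟨p, hp, hdeg⟩ := exists_polynomial hK
  have hq : 0 < Nat.card k := Finite.card_pos
  have hpc : ∀ n, p.coeff n = PowerSeries.coeff n (FunFld.numerZ k K) := by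
    intro n
    rw [← hp, Polynomial.coeff_coe]
  obtain ⟨α, hα1, hα2, hα3⟩ := Roots.exists_roots_of_functional_equation (Nat.card k)
    (FunFld.genus k K) hq p (by rw [hpc, coeff_zero hK]) hdeg.le (by
      intro i hi
      rw [hpc, hpc]
      exact h3 i hi)
  refine ⟨α, hα1, ?_, hα3⟩
  rw [← hα2, ← hp, Polynomial.polynomial_map_coe]

end K663.Main
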