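import Groth.Agent.FunFld.K663.Main

/-!
# Constant field extensions over finite fields: `N_s(K') = N_{rs}(K)`
-/

set_option autoImplicit false

namespace K663.ConstExt

open Groth.Agent.Models.FFRR Groth.Agent.MiscA K663.Bridge K663.Main TensorProduct
open Groth.Agent.MiscA.WCPlace (IsSep)
open Groth.Agent.Cohder

universe u v w z

section Frob

variable {k : Type u} {F : Type v} {E : Type w} {L : Type z} [Field k] [Field F] [Field E]
  [Field L] [Algebra k F] [Algebra k E] [Algebra F L] [Algebra E L] [Algebra k L]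
  [IsScalarTower k F L] [IsScalarTower k E L]

/-- The Frobenius of a constant field extension. -/
theorem exists_frob [Finite k] [Algebra.IsAlgebraic k E]
    (hk : ∀ x : F, IsAlgebraic k x → x ∈ (algebraMap k F).range)
    (hgen : Algebra.adjoin F (Set.range (algebraMap E L)) = ⊤) :
    ∃ θ : L ≃+* L, (∀ x : F, θ (algebraMap F L x) = algebraMap F L x) ∧
        ∀ a : E, θ (algebraMap E L a) = algebraMap E L (a ^ Nat.card k) := by
  have hf : IsField (F ⊗[k] E) := HWLD.isField hk
  let _ := Fintype.ofFinite k
  let f : F ⊗[k] E →ₐ[k] L := Algebra.TensorProduct.productMap (IsScalarTower.toAlgHom k F L)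
    (IsScalarTower.toAlgHom k E L)
  have hf1 : ∀ x : F, f (x ⊗ₜ 1) = algebraMap F L x := by
    intro x
    simp [f]
  have hf2 : ∀ a : E, f (1 ⊗ₜ a) = algebraMap E L a := by
    intro a
    simp [f]
  have hinj : Function.Injective f := by
    let _ := hf.toField
    exact f.toRingHom.injective
  have hsurj : Function.Surjective f := by
    intro y
    have hy : y ∈ Algebra.adjoin F (Set.range (algebraMap E L)) := by
      rw [hgen]
      exact Algebra.mem_top
    induction hy using Algebra.adjoin_induction with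
    | mem x hx =>
      obtain ⟨a, rfl⟩ := hx
      exact ⟨1 ⊗ₜ a, hf2 a⟩
    | algebraMap x => exact ⟨x ⊗ₜ 1, hf1 x⟩
    | add x y _ _ hx hy =>
      obtain ⟨a, rfl⟩ := hx
      obtain ⟨b, rfl⟩ := hy
      exact ⟨a + b, map_add _ _ _⟩
    | mul x y _ _ hx hy =>
      obtain ⟨a, rfl⟩ := hx
      obtain ⟨b, rfl⟩ := hy
      exact ⟨a * b, map_mul _ _ _⟩
  let e : F ⊗[k] E ≃+* L := RingEquiv.ofBijective f ⟨hinj, hsurj⟩
  let θ₀ : F ⊗[k] E ≃+* F ⊗[k] E := (Algebra.TensorProduct.congr (AlgEquiv.refl : F ≃ₐ[k] F)
    (FiniteField.frobeniusAlgEquivOfAlgebraic k E)).toRingEquiv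
  have he1 : ∀ x : F, e (x ⊗ₜ 1) = algebraMap F L x := hf1
  have he2 : ∀ a : E, e (1 ⊗ₜ a) = algebraMap E L a := hf2
  refine ⟨e.symm.trans (θ₀.trans e), ?_, ?_⟩
  · intro x
    rw [← he1, RingEquiv.trans_apply, RingEquiv.symm_apply_apply, RingEquiv.trans_apply]
    congr 1
    change (Algebra.TensorProduct.congr (AlgEquiv.refl : F ≃ₐ[k] F)
      (FiniteField.frobeniusAlgEquivOfAlgebraic k E)) (x ⊗ₜ[k] (1 : E)) = _
    rw [Algebra.TensorProduct.congr_apply, Algebra.TensorProduct.map_tmul]
    simp
  · intro a
    rw [← he2, ← he2, RingEquiv.trans_apply, RingEquiv.symm_apply_apply, RingEquiv.trans_apply]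
    congr 1
    change (Algebra.TensorProduct.congr (AlgEquiv.refl : F ≃ₐ[k] F)
      (FiniteField.frobeniusAlgEquivOfAlgebraic k E)) ((1 : F) ⊗ₜ[k] a) = _
    rw [Algebra.TensorProduct.congr_apply, Algebra.TensorProduct.map_tmul]
    simp

theorem pow_fix {θ : L ≃+* L} (hθF : ∀ x : F, θ (algebraMap F L x) = algebraMap F L x) (n : ℕ)
    (x : F) : (θ ^ n) (algebraMap F L x) = algebraMap F L x := by
  induction n with
  | zero => rfl
  | succ n ih =>
    rw [pow_succ]
    change (θ ^ n) (θ (algebraMap F L x)) = _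
    rw [hθF, ih]

theorem pow_frob {q : ℕ} {θ : L ≃+* L} (hθE : ∀ a : E, θ (algebraMap E L a) = algebraMap E L (a ^ q)) (n : ℕ)
    (a : E) : (θ ^ n) (algebraMap E L a) = algebraMap E L (a ^ q ^ n) := by
  induction n generalizing a with
  | zero => simp
  | succ n ih =>
    rw [pow_succ]
    change (θ ^ n) (θ (algebraMap E L a)) = _
    rw [hθE, ih, ← pow_mul, pow_succ, mul_comm]

/-- Two ring automorphisms agreeing on `F` and `E` are equal. -/
theorem ringEquiv_ext (hgen : Algebra.adjoin F (Set.range (algebraMap E L)) = ⊤) {θ θ' : L ≃+* L}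
    (h1 : ∀ x : F, θ (algebraMap F L x) = θ' (algebraMap F L x))
    (h2 : ∀ a : E, θ (algebraMap E L a) = θ' (algebraMap E L a)) : θ = θ' := by
  ext y
  have hy : y ∈ Algebra.adjoin F (Set.range (algebraMap E L)) := by
    rw [hgen]
    exact Algebra.mem_top
  induction hy using Algebra.adjoin_induction with
  | mem x hx =>
    obtain ⟨a, rfl⟩ := hx
    exact h2 a
  | algebraMap x => exact h1 x
  | add x y _ _ hx hy => rw [map_add, map_add, hx, hy]
  | mul x y _ _ hx hy => rw [map_mul, map_mul, hx, hy]

end Frob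

section Count

/-- `N_n(K)` is the number of places of `K ⊗ k̄` fixed by the `n`-th power of Frobenius. -/
theorem NN_eq_card_fix {k : Type u} {F : Type v} {E : Type w} {L : Type z} [Field k] [Field F] [Field E]
    [Field L] [Algebra k F] [Algebra k E] [Algebra F L] [Algebra E L] [Algebra k L]
    [IsScalarTower k F L] [IsScalarTower k E L] [Finite k] [Algebra.IsAlgebraic k E] [IsAlgClosed E]
    (hF : FunFld.IsFunctionField k F)
    (hgen : Algebra.adjoin F (Set.range (algebraMap E L)) = ⊤) (θ : L ≃+* L)
    (hθF : ∀ x : F, θ (algebraMap F L x) = algebraMap F L x)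
    (hθE : ∀ a : E, θ (algebraMap E L a) = algebraMap E L (a ^ Nat.card k)) (n : ℕ) (hn : 1 ≤ n) :
    NN k F n = Nat.card (HWTrick.Fix E (θ ^ n)) := by
  obtain ⟨t, ht⟩ := exists_isSep hF
  have : Algebra.IsAlgebraic F L := HWMain.isAlgebraic_of_gen (k := k) (E := E) hgen
  have hL : IsSep E L (algebraMap F L t) := HWMain.isSep_baseChange ht hgen
  let _ := Fintype.ofFinite k
  obtain ⟨p, hp⟩ := CharP.exists k
  obtain ⟨e, hpp, hcard⟩ := FiniteField.card k p
  have : Fact p.Prime := ⟨hpp⟩
  have : CharP E p := charP_of_injective_algebraMap (algebraMap k E).injective p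
  have hq : Nat.card k = p ^ (e : ℕ) := by rw [Nat.card_eq_fintype_card, hcard]
  obtain ⟨c, hc⟩ := HWKbar.growth p hL θ e e.2 (by rw [← hq]; exact hθE) (hθF t)
  obtain ⟨hfin, -⟩ := hc n hn
  rw [← HWCover.card_fix ht hL hgen θ hθF hθE n hn, ← N_eq, N_eq']
  rfl

variable {k : Type u} {K : Type v} {k' : Type w} {K' : Type z} [Field k] [Finite k] [Field K]
  [Algebra k K] [Field k'] [Finite k'] [Field K'] [Algebra k k'] [Algebra K K'] [Algebra k' K']

theorem NN_constExt (hK : FunFld.IsFunctionField k K)
    (hK' : FunFld.IsFunctionField k' K') (hce : FunFld.IsConstExt k K k' K') (s : ℕ) (hs : 1 ≤ s) :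
    NN k' K' s = NN k K (Module.finrank k k' * s) := by
  have hfin : Module.Finite k k' := Module.Finite.of_finite
  let E := AlgebraicClosure k'
  obtain ⟨L, iF, iKL, iEL, ikL, t1, t2, hgen', θ', hθ'K, hθ'E⟩ :=
    HWMain.exists_extension k' K' hK'.2 E
  let a1 : Algebra K L := ((algebraMap K' L).comp (algebraMap K K')).toAlgebra
  let a2 : Algebra k L := ((algebraMap K L).comp (algebraMap k K)).toAlgebra
  have s1 : IsScalarTower k K L := IsScalarTower.of_algebraMap_eq fun _ => rfl
  have s0 : IsScalarTower K K' L := IsScalarTower.of_algebraMap_eq fun _ => rfl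
  have s2 : IsScalarTower k E L := by
    refine IsScalarTower.of_algebraMap_eq fun c => ?_
    rw [IsScalarTower.algebraMap_apply k k' E, ← IsScalarTower.algebraMap_apply k' E L,
      IsScalarTower.algebraMap_apply k' K' L, ← hce.1]
    rfl
  have hkE : Algebra.IsAlgebraic k E := Algebra.IsAlgebraic.trans k k' E
  -- generation
  have hgen : Algebra.adjoin K (Set.range (algebraMap E L)) = ⊤ := by
    rw [eq_top_iff]
    intro y _
    have hK'le : ∀ x : K', algebraMap K' L x ∈ Algebra.adjoin K (Set.range (algebraMap E L)) := by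
      intro x
      have hx : x ∈ Algebra.adjoin K (Set.range (algebraMap k' K')) := by
        rw [hce.2.1]
        exact Algebra.mem_top
      induction hx using Algebra.adjoin_induction with
      | mem x hx =>
        obtain ⟨a, rfl⟩ := hx
        rw [← IsScalarTower.algebraMap_apply k' K' L, IsScalarTower.algebraMap_apply k' E L]
        exact Algebra.subset_adjoin ⟨_, rfl⟩
      | algebraMap x =>
        rw [← IsScalarTower.algebraMap_apply K K' L]
        exact Subalgebra.algebraMap_mem _ x
      | add x y _ _ hx hy => rw [map_add]; exact add_mem hx hy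
      | mul x y _ _ hx hy => rw [map_mul]; exact mul_mem hx hy
    have hy : y ∈ Algebra.adjoin K' (Set.range (algebraMap E L)) := by
      rw [hgen']
      exact Algebra.mem_top
    induction hy using Algebra.adjoin_induction with
    | mem x hx => exact Algebra.subset_adjoin hx
    | algebraMap x => exact hK'le x
    | add x y _ _ hx hy => exact add_mem (hx trivial) (hy trivial)
    | mul x y _ _ hx hy => exact mul_mem (hx trivial) (hy trivial)
  obtain ⟨θ, hθK, hθE⟩ := exists_frob (k := k) (F := K) (E := E) (L := L) hK.2 hgen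
  have hcard : Nat.card k' = Nat.card k ^ Module.finrank k k' := Module.natCard_eq_pow_finrank
  -- `θ ^ r` is the Frobenius over `k'`
  have hθr : θ ^ Module.finrank k k' = θ' := by
    refine ringEquiv_ext (F := K') (E := E) hgen' ?_ ?_
    · intro x
      rw [hθ'K]
      have hx : x ∈ Algebra.adjoin K (Set.range (algebraMap k' K')) := by
        rw [hce.2.1]
        exact Algebra.mem_top
      induction hx using Algebra.adjoin_induction with
      | mem x hx =>
        obtain ⟨a, rfl⟩ := hx
        rw [← IsScalarTower.algebraMap_apply k' K' L, IsScalarTower.algebraMap_apply k' E L,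
          pow_frob hθE, ← hcard, ← map_pow]
        congr 2
        let _ := Fintype.ofFinite k'
        rw [Nat.card_eq_fintype_card, FiniteField.pow_card]
      | algebraMap x =>
        rw [← IsScalarTower.algebraMap_apply K K' L]
        exact pow_fix hθK _ x
      | add x y _ _ hx hy => rw [map_add, map_add, hx, hy]
      | mul x y _ _ hx hy => rw [map_mul, map_mul, hx, hy]
    · intro a
      rw [hθ'E, pow_frob hθE, hcard]
  have hr : 0 < Module.finrank k k' := Module.finrank_pos
  rw [NN_eq_card_fix hK hgen θ hθK hθE _ (Nat.mul_pos hr hs),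
    NN_eq_card_fix hK' hgen' θ' hθ'K hθ'E s hs, pow_mul, hθr]

end Count

end K663.ConstExt
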