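import Groth.Agent.FunFld.K663.Bridge
import Mathlib.RingTheory.Unramified.Field
import Mathlib.RingTheory.Kaehler.Basic
import Mathlib.FieldTheory.PrimitiveElement
import Mathlib.GroupTheory.CosetCover
import Mathlib.RingTheory.Derivation.Basic
import Mathlib.LinearAlgebra.Dual.Lemmas

/-!
# Separating elements and generators in a generating subspace of a function field
-/

set_option autoImplicit false

namespace K663.Gen

open Groth.Agent.MiscA.WCPlace (IsSep)

universe u v

variable {k : Type u} {K : Type v} [Field k] [Field K] [Algebra k K]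

/-- The field of constants of a derivation. -/
def kerField (D : Derivation k K K) : IntermediateField k K where
  carrier := {x | D x = 0}
  mul_mem' := by
    intro a b ha hb
    simp only [Set.mem_ofPred_eq] at ha hb ⊢
    rw [D.leibniz, ha, hb, smul_zero, smul_zero, add_zero]
  add_mem' := by
    intro a b ha hb
    simp only [Set.mem_ofPred_eq] at ha hb ⊢
    rw [map_add, ha, hb, add_zero]
  algebraMap_mem' := fun c => D.map_algebraMap c
  inv_mem' := by
    intro a ha
    simp only [Set.mem_ofPred_eq] at ha ⊢
    rw [D.leibniz_inv, ha, smul_zero]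

theorem mem_kerField {D : Derivation k K K} {x : K} : x ∈ kerField D ↔ D x = 0 := Iff.rfl

/-- A derivation killing `F`, with `K / F` separable, is zero. -/
theorem eq_zero_of_isSeparable (F : IntermediateField k K) [Algebra.IsSeparable F K]
    (D : Derivation k K K) (h : ∀ x ∈ F, D x = 0) : D = 0 := by
  let L : K →ₗ[F] K :=
    { toFun := D
      map_add' := D.map_add
      map_smul' := by
        intro c x
        have hc : D (algebraMap F K c) = 0 := h _ c.2
        rw [Algebra.smul_def, D.leibniz, hc, smul_zero, add_zero, smul_eq_mul, RingHom.id_apply,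
          Algebra.smul_def] }
  let D' : Derivation F K K := Derivation.mk' L (fun a b => D.leibniz a b)
  have hD' : ∀ x, D' x = D x := fun x => rfl
  ext x
  rw [Derivation.coe_zero, Pi.zero_apply, ← hD']
  have hsep : IsSeparable F x := Algebra.IsSeparable.isSeparable F x
  have h1 : D' (Polynomial.aeval x (minpoly F x)) = 0 := by rw [minpoly.aeval, map_zero]
  rw [D'.map_aeval, smul_eq_mul] at h1
  exact (mul_eq_zero.1 h1).resolve_left (hsep.aeval_derivative_ne_zero (minpoly.aeval F x))

/-- If `K / F` is not separable there is a nonzero derivation killing `F`. -/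
theorem exists_derivation (F : IntermediateField k K) [Algebra.EssFiniteType F K]
    (h : ¬ Algebra.IsSeparable F K) : ∃ D : Derivation k K K, D ≠ 0 ∧ ∀ x ∈ F, D x = 0 := by
  have h1 : ¬ Algebra.FormallyUnramified F K := fun h2 =>
    h ((Algebra.FormallyUnramified.iff_isSeparable F K).1 h2)
  have h2 : ¬ Subsingleton (Ω[K⁄F]) := fun h3 => h1 ⟨h3⟩
  have h3 : ∃ x : K, KaehlerDifferential.D F K x ≠ 0 := by
    by_contra hcon
    push Not at hcon
    apply h2
    have h4 := KaehlerDifferential.span_range_derivation F K
    have h5 : Submodule.span K (Set.range (KaehlerDifferential.D F K)) = ⊥ := by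
      rw [Submodule.span_eq_bot]
      rintro _ ⟨x, rfl⟩
      exact hcon x
    rw [h5] at h4
    exact (Submodule.subsingleton_iff K).1 (subsingleton_of_bot_eq_top h4)
  obtain ⟨x, hx⟩ := h3
  obtain ⟨φ, hφ⟩ : ∃ φ : Module.Dual K (Ω[K⁄F]), φ (KaehlerDifferential.D F K x) ≠ 0 := by
    by_contra hcon
    push Not at hcon
    exact hx ((Module.forall_dual_apply_eq_zero_iff K _).1 hcon)
  let D' : Derivation F K K := φ.compDer (KaehlerDifferential.D F K)
  refine ⟨D'.restrictScalars k, ?_, ?_⟩
  · intro h0
    apply hφ
    have := DFunLike.congr_fun h0 x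
    exact this
  · intro y hy
    exact D'.map_algebraMap ⟨y, hy⟩

/-- A generating subspace contains a separating element. -/
theorem exists_separating [PerfectField k] (hK : FunFld.IsFunctionField k K) (W : Set K)
    (h1 : W.Nonempty) (hW : IntermediateField.adjoin k W = ⊤) :
    ∃ x ∈ W, Algebra.IsSeparable (IntermediateField.adjoin k ({x} : Set K)) K := by
  have hess := Bridge.essFiniteType hK
  obtain ⟨t, ht⟩ := Bridge.exists_isSep hK
  have hsep := ht.sep
  by_contra hcon
  push Not at hcon
  have key : ∀ x ∈ W, ∃ D : Derivation k K K, D ≠ 0 ∧ D x = 0 := by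
    intro x hx
    have : Algebra.EssFiniteType (IntermediateField.adjoin k ({x} : Set K)) K :=
      Algebra.EssFiniteType.of_comp k _ _
    obtain ⟨D, hD, hD'⟩ := exists_derivation _ (hcon x hx)
    exact ⟨D, hD, hD' x (IntermediateField.mem_adjoin_simple_self k x)⟩
  have ht0 : ∀ D : Derivation k K K, D t = 0 → D = 0 := by
    intro D hD
    refine eq_zero_of_isSeparable (IntermediateField.adjoin k ({t} : Set K)) D ?_
    intro x hx
    have h2 : IntermediateField.adjoin k ({t} : Set K) ≤ kerField D := by
      rw [IntermediateField.adjoin_simple_le_iff]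
      exact hD
    exact h2 hx
  obtain ⟨x₀, hx₀⟩ := h1
  obtain ⟨D₀, hD₀, -⟩ := key x₀ hx₀
  apply hD₀
  have h3 : IntermediateField.adjoin k W ≤ kerField D₀ := by
    rw [IntermediateField.adjoin_le_iff]
    intro x hx
    obtain ⟨D, hD, hDx⟩ := key x hx
    have h4 : D t • D₀ - D₀ t • D = 0 := by
      apply ht0
      simp only [Derivation.sub_apply, Derivation.smul_apply, smul_eq_mul]
      ring
    have h5 := DFunLike.congr_fun h4 x
    simp only [Derivation.sub_apply, Derivation.smul_apply, smul_eq_mul, hDx, mul_zero, sub_zero,
      Derivation.coe_zero, Pi.zero_apply] at h5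
    exact (mul_eq_zero.1 h5).resolve_left (fun h => hD (ht0 D h))
  rw [hW] at h3
  ext x
  exact h3 (IntermediateField.mem_top : x ∈ (⊤ : IntermediateField k K))

/-- Over an infinite field, a generating subspace contains a second generator. -/
theorem exists_generator [Infinite k] (hK : FunFld.IsFunctionField k K) (W : Submodule k K)
    (hW : IntermediateField.adjoin k (W : Set K) = ⊤) (x : K)
    (hx : Algebra.IsSeparable (IntermediateField.adjoin k ({x} : Set K)) K) :
    ∃ y ∈ W, IntermediateField.adjoin k ({x, y} : Set K) = ⊤ := by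
  have hess := Bridge.essFiniteType hK
  let F := IntermediateField.adjoin k ({x} : Set K)
  have hess' : Algebra.EssFiniteType F K := Algebra.EssFiniteType.of_comp k _ _
  have hfin : Module.Finite F K := Algebra.finite_of_essFiniteType_of_isAlgebraic
  have hfi : Finite (IntermediateField F K) :=
    (Field.exists_primitive_element_iff_finite_intermediateField F K).1
      ⟨inferInstance, Field.exists_primitive_element F K⟩
  by_contra hcon
  push Not at hcon
  -- for `y ∈ W`, `F(y) ≠ ⊤`
  have h1 : ∀ y ∈ W, IntermediateField.adjoin F ({y} : Set K) ≠ ⊤ := by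
    intro y hy h
    apply hcon y hy
    have h2 : (IntermediateField.adjoin F ({y} : Set K)).restrictScalars k =
        IntermediateField.adjoin k ({x} ∪ {y} : Set K) := IntermediateField.adjoin_adjoin_left k {x} {y}
    rw [h] at h2
    rw [show ({x, y} : Set K) = {x} ∪ {y} from rfl, ← h2]
    exact IntermediateField.restrictScalars_top
  let ι := {E : IntermediateField F K // E ≠ ⊤}
  let p : ι → Subspace k W := fun E =>
    ((E.1.restrictScalars k).toSubalgebra.toSubmodule).comap W.subtype
  have hcov : ⋃ i, (p i : Set W) = Set.univ := by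
    rw [Set.eq_univ_iff_forall]
    intro y
    rw [Set.mem_iUnion]
    exact ⟨⟨IntermediateField.adjoin F ({(y : K)} : Set K), h1 y y.2⟩,
      IntermediateField.mem_adjoin_simple_self F (y : K)⟩
  obtain ⟨E, hE⟩ := Subspace.exists_eq_top_of_iUnion_eq_univ hcov
  apply E.2
  have h2 : IntermediateField.adjoin k (W : Set K) ≤ E.1.restrictScalars k := by
    rw [IntermediateField.adjoin_le_iff]
    intro y hy
    have h3 : (⟨y, hy⟩ : W) ∈ p E := by
      rw [hE]
      exact Submodule.mem_top
    exact h3
  rw [hW] at h2
  rw [eq_top_iff]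
  intro y _
  exact h2 (IntermediateField.mem_top : y ∈ (⊤ : IntermediateField k K))

end K663.Gen
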