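import Groth.Prelude.Def_LocRes
import Mathlib.RingTheory.Henselian
import Mathlib.FieldTheory.PrimitiveElement
import Mathlib.FieldTheory.RatFunc.AsPolynomial
import Mathlib.RingTheory.PowerSeries.Basic
import Mathlib.RingTheory.PowerSeries.Inverse
import Mathlib.RingTheory.AdicCompletion.Topology
import Mathlib.RingTheory.AdicCompletion.Completeness
import Groth.Agent.FunFld.K660.Places
import Groth.Agent.FunFld.K668.Hasse

/-!
# Existence of Hasse families
-/

set_option autoImplicit false

namespace K663.HasseEx

universe u v w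

/-- Lifting a finite separable extension along a Henselian surjection. -/
theorem exists_lift {F : Type u} {K : Type v} {R : Type w} [Field F] [Field K] [Algebra F K] [CommRing R]
    [FiniteDimensional F K] [Algebra.IsSeparable F K] (φ : F →+* R) (π : R →+* K)
    (hπ : Function.Surjective π) (hφ : ∀ x, π (φ x) = algebraMap F K x)
    [HenselianRing R (RingHom.ker π)] :
    ∃ H : K →+* R, (∀ x, H (algebraMap F K x) = φ x) ∧ ∀ y, π (H y) = y := by
  let _ : Algebra F R := φ.toAlgebra
  let πA : R →ₐ[F] K := { π with commutes' := hφ }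
  have hπA : ∀ r, πA r = π r := fun _ => rfl
  let pb := Field.powerBasisOfFiniteOfSeparable F K
  obtain ⟨a₀, ha₀⟩ := hπ pb.gen
  set f := (minpoly F pb.gen).map (algebraMap F R) with hf
  have hmonic : f.Monic := (minpoly.monic (Algebra.IsIntegral.isIntegral pb.gen)).map _
  have h1 : f.eval a₀ ∈ RingHom.ker π := by
    rw [RingHom.mem_ker, hf, Polynomial.eval_map_algebraMap, ← hπA, ← Polynomial.aeval_algHom_apply, hπA,
      ha₀, minpoly.aeval]
  have h2 : IsUnit (Ideal.Quotient.mk (RingHom.ker π) (f.derivative.eval a₀)) := by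
    have h3 : π (f.derivative.eval a₀) ≠ 0 := by
      rw [hf, Polynomial.derivative_map, Polynomial.eval_map_algebraMap, ← hπA,
        ← Polynomial.aeval_algHom_apply, hπA, ha₀]
      exact Polynomial.Separable.aeval_derivative_ne_zero (Algebra.IsSeparable.isSeparable F pb.gen)
        (minpoly.aeval F pb.gen)
    have h4 : IsUnit ((RingHom.quotientKerEquivOfSurjective hπ)
        (Ideal.Quotient.mk (RingHom.ker π) (f.derivative.eval a₀))) := by
      rw [RingHom.quotientKerEquivOfSurjective_apply_mk, isUnit_iff_ne_zero]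
      exact h3
    exact (MulEquiv.isUnit_map (RingHom.quotientKerEquivOfSurjective hπ)).1 h4
  obtain ⟨a, ha, haa₀⟩ := HenselianRing.is_henselian f hmonic a₀ h1 h2
  have ha' : Polynomial.aeval a (minpoly F pb.gen) = 0 := by
    rw [← Polynomial.eval_map_algebraMap]
    exact ha
  have hπa : π a = pb.gen := by
    rw [RingHom.mem_ker, map_sub, ha₀, sub_eq_zero] at haa₀
    exact haa₀
  let H := pb.lift a ha'
  have hH : πA.comp H = AlgHom.id F K := by
    apply pb.algHom_ext
    rw [AlgHom.comp_apply, PowerBasis.lift_gen, hπA, hπa, AlgHom.id_apply]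
  exact ⟨H, fun x => H.commutes x, fun y => DFunLike.congr_fun hH y⟩

section Hasse

open scoped Polynomial PowerSeries

variable {k : Type u} {K : Type v} [Field k] [Field K] [Algebra k K]

theorem ker_constantCoeff : RingHom.ker (PowerSeries.constantCoeff : K⟦X⟧ →+* K) = Ideal.span {(PowerSeries.X : K⟦X⟧)} := by
  ext x
  rw [RingHom.mem_ker, Ideal.mem_span_singleton, PowerSeries.X_dvd_iff]

open IntermediateField in
/-- Existence of the Hasse family of a separating element. -/
theorem exists_isHasseFamily {s : K} (hs : Transcendental k s)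
    [FiniteDimensional (adjoin k ({s} : Set K)) K]
    [Algebra.IsSeparable (adjoin k ({s} : Set K)) K] :
    ∃ H : K →ₐ[k] PowerSeries K, LocRes.IsHasseFamily s H := by
  -- the Taylor map on polynomials
  let T : k[X] →ₐ[k] K⟦X⟧ := Polynomial.aeval (PowerSeries.C s + PowerSeries.X : K⟦X⟧)
  have hT : ∀ p : k[X], PowerSeries.constantCoeff (T p) = Polynomial.aeval s p := by
    intro p
    let c : K⟦X⟧ →ₐ[k] K := { (PowerSeries.constantCoeff : K⟦X⟧ →+* K) with
      commutes' := fun r => by
        rw [IsScalarTower.algebraMap_apply k K K⟦X⟧]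
        exact PowerSeries.constantCoeff_C _ }
    have h1 : PowerSeries.constantCoeff (T p) = c (T p) := rfl
    have h2 : c (PowerSeries.C s + PowerSeries.X) = s := by
      show PowerSeries.constantCoeff (PowerSeries.C s + PowerSeries.X) = s
      rw [map_add, PowerSeries.constantCoeff_C, PowerSeries.constantCoeff_X, add_zero]
    rw [h1, ← Polynomial.aeval_algHom_apply, h2]
  have hunit : ∀ y : nonZeroDivisors k[X], IsUnit (T y) := by
    intro y
    rw [PowerSeries.isUnit_iff_constantCoeff, hT, isUnit_iff_ne_zero]
    exact fun h => nonZeroDivisors.ne_zero y.2 ((transcendental_iff.1 hs) _ h)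
  let T' : RatFunc k →ₐ[k] K⟦X⟧ := IsLocalization.liftAlgHom (M := nonZeroDivisors k[X]) (f := T) hunit
  have hT' : ∀ p : k[X], T' (algebraMap k[X] (RatFunc k) p) = T p := fun p =>
    IsLocalization.lift_eq _ p
  let e := RatFunc.algEquivOfTranscendental s hs
  let φ : adjoin k ({s} : Set K) →+* K⟦X⟧ := (T' : RatFunc k →+* K⟦X⟧).comp (e.symm : _ →+* RatFunc k)
  have hφ : ∀ x, PowerSeries.constantCoeff (φ x) = algebraMap (adjoin k ({s} : Set K)) K x := by
    intro x
    obtain ⟨r, rfl⟩ := e.surjective x
    have h1 : φ (e r) = T' r := by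
      show T' (e.symm (e r)) = T' r
      rw [AlgEquiv.symm_apply_apply]
    rw [h1]
    obtain ⟨p, q, hq, rfl⟩ := IsFractionRing.div_surjective (A := k[X]) r
    have hq0 : q ≠ 0 := nonZeroDivisors.ne_zero hq
    have hqa : Polynomial.aeval s q ≠ 0 := fun h => hq0 ((transcendental_iff.1 hs) _ h)
    have h2 : T' (algebraMap k[X] (RatFunc k) p / algebraMap k[X] (RatFunc k) q) * T q = T p := by
      rw [← hT', ← hT', ← map_mul, div_mul_cancel₀]
      rw [Ne, FaithfulSMul.algebraMap_eq_zero_iff]
      exact hq0
    have h3 := congrArg PowerSeries.constantCoeff h2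
    rw [map_mul, hT, hT] at h3
    have h4 : (e (algebraMap k[X] (RatFunc k) p / algebraMap k[X] (RatFunc k) q) : K) =
        Polynomial.aeval s p / Polynomial.aeval s q := by
      have h5 : ∀ p : k[X], ((Polynomial.aeval (AdjoinSimple.gen k s) p : adjoin k ({s} : Set K)) : K) =
          Polynomial.aeval s p := fun p =>
        (Polynomial.aeval_algebraMap_apply K (AdjoinSimple.gen k s) p).symm
      rw [map_div₀, RatFunc.algEquivOfTranscendental_algebraMap,
        RatFunc.algEquivOfTranscendental_algebraMap, IntermediateField.coe_div, h5, h5]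
    rw [show algebraMap (adjoin k ({s} : Set K)) K
      (e (algebraMap k[X] (RatFunc k) p / algebraMap k[X] (RatFunc k) q)) =
      ((e (algebraMap k[X] (RatFunc k) p / algebraMap k[X] (RatFunc k) q) : adjoin k ({s} : Set K)) : K)
      from rfl, h4, eq_div_iff hqa]
    exact h3
  have : HenselianRing K⟦X⟧ (RingHom.ker (PowerSeries.constantCoeff : K⟦X⟧ →+* K)) := by
    rw [ker_constantCoeff]
    infer_instance
  obtain ⟨H, hH, hH'⟩ := exists_lift φ (PowerSeries.constantCoeff : K⟦X⟧ →+* K)
    (fun x => ⟨PowerSeries.C x, PowerSeries.constantCoeff_C x⟩) hφ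
  refine ⟨{ H with commutes' := fun c => ?_ }, ?_, hH'⟩
  · show H (algebraMap k K c) = algebraMap k K⟦X⟧ c
    rw [IsScalarTower.algebraMap_apply k (adjoin k ({s} : Set K)) K, hH]
    show T' (e.symm (algebraMap k _ c)) = _
    rw [AlgEquiv.commutes, AlgHom.commutes]
  · show H s = PowerSeries.C s + PowerSeries.X
    have h1 : H s = H (algebraMap (adjoin k ({s} : Set K)) K (AdjoinSimple.gen k s)) := rfl
    rw [h1, hH]
    show T' (e.symm (AdjoinSimple.gen k s)) = _
    rw [RatFunc.algEquivOfTranscendental_symm_gen, ← RatFunc.algebraMap_X, hT']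
    exact Polynomial.aeval_X _

open IntermediateField in
/-- Existence of the Hasse family of a separating element of a function field. -/
theorem exists_of_isSeparable (hK : FunFld.IsFunctionField k K) {s : K} (hs : Transcendental k s)
    [Algebra.IsSeparable (adjoin k ({s} : Set K)) K] :
    ∃ H : K →ₐ[k] PowerSeries K, LocRes.IsHasseFamily s H := by
  have hfin := (K660.Places.isGen_of_transcendental hK hs).fin
  exact exists_isHasseFamily hs

open IntermediateField in
/-- Over a perfect field Hasse families exist. -/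
theorem exists_of_perfectField [PerfectField k] (hK : FunFld.IsFunctionField k K) :
    ∃ (s : K) (H : K →ₐ[k] PowerSeries K), Transcendental k s ∧
      Algebra.IsSeparable (adjoin k ({s} : Set K)) K ∧ LocRes.IsHasseFamily s H := by
  obtain ⟨s, hs, hsep⟩ := K668.Hasse.exists_isSeparable hK
  obtain ⟨H, hH⟩ := exists_of_isSeparable hK hs
  exact ⟨s, H, hs, hsep, hH⟩

end Hasse

end K663.HasseEx
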