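import Mathlib.RingTheory.RootsOfUnity.Complex
import Mathlib.RingTheory.Polynomial.Cyclotomic.Basic

set_option autoImplicit false
open Polynomial

namespace K663.NthRoots

theorem prod_nthRoots {n : ℕ} (hn : 0 < n) {ζ : ℂ} (hζ : IsPrimitiveRoot ζ n) (f : ℂ → ℂ) :
    ∏ θ ∈ nthRootsFinset n (1 : ℂ), f θ = ∏ i ∈ Finset.range n, f (ζ ^ i) := by
  symm
  refine Finset.prod_bij (fun i _ => ζ ^ i) ?_ ?_ ?_ ?_
  · intro i _
    rw [mem_nthRootsFinset hn, ← pow_mul, mul_comm, pow_mul, hζ.pow_eq_one, one_pow]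
  · intro i hi j hj h
    exact hζ.pow_inj (Finset.mem_range.1 hi) (Finset.mem_range.1 hj) h
  · intro θ hθ
    rw [mem_nthRootsFinset hn] at hθ
    have : NeZero n := ⟨hn.ne'⟩
    obtain ⟨i, hi, rfl⟩ := hζ.eq_pow_of_pow_eq_one hθ
    exact ⟨i, Finset.mem_range.2 hi, rfl⟩
  · intro i _
    rfl

theorem prod_range_periodic {m : ℕ} {ξ : ℂ} (h : ξ ^ m = 1) (f : ℂ → ℂ) (e : ℕ) :
    ∏ i ∈ Finset.range (m * e), f (ξ ^ i) = (∏ i ∈ Finset.range m, f (ξ ^ i)) ^ e := by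
  induction e with
  | zero => simp
  | succ e ih =>
    rw [Nat.mul_succ, Finset.prod_range_add, ih, pow_succ]
    congr 1
    refine Finset.prod_congr rfl fun i _ => ?_
    rw [pow_add, pow_mul, h, one_pow, one_mul]

/-- `(1 - t^(nd/e))^e = ∏ (1 - (θ t)^d)` over the `n`-th roots of unity. -/
theorem main (n d : ℕ) (hn : 0 < n) (hd : 0 < d) :
    ((1 : Polynomial ℂ) - Polynomial.X ^ (n * d / Nat.gcd n d)) ^ Nat.gcd n d =
      ∏ θ ∈ Polynomial.nthRootsFinset n (1 : ℂ),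
        (1 - Polynomial.C (θ ^ d) * Polynomial.X ^ d) := by
  apply Polynomial.funext
  intro z
  obtain ⟨ζ, hζ⟩ : ∃ ζ : ℂ, IsPrimitiveRoot ζ n := ⟨_, Complex.isPrimitiveRoot_exp n hn.ne'⟩
  set e := Nat.gcd n d with he
  have he0 : 0 < e := Nat.gcd_pos_of_pos_left d hn
  obtain ⟨m, hm⟩ : e ∣ n := Nat.gcd_dvd_left n d
  have hm0 : 0 < m := Nat.pos_of_ne_zero (by rintro rfl; simp at hm; omega)
  have hξ : IsPrimitiveRoot (ζ ^ d) m := by
    have h1 : orderOf (ζ ^ d) = m := by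
      rw [orderOf_pow' ζ hd.ne', ← hζ.eq_orderOf, ← he, hm]
      exact Nat.mul_div_cancel_left m he0
    rw [← h1]
    exact IsPrimitiveRoot.orderOf _
  rw [Polynomial.eval_prod]
  simp only [Polynomial.eval_pow, Polynomial.eval_sub, Polynomial.eval_one, Polynomial.eval_X,
    Polynomial.eval_mul, Polynomial.eval_C]
  rw [prod_nthRoots hn hζ (fun θ => 1 - θ ^ d * z ^ d)]
  have h2 : ∀ i, (ζ ^ i) ^ d = (ζ ^ d) ^ i := fun i => by rw [← pow_mul, ← pow_mul, mul_comm]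
  simp only [h2]
  have h3 : n = m * e := by rw [hm, mul_comm]
  rw [h3, prod_range_periodic hξ.pow_eq_one (fun η => 1 - η * z ^ d) e,
    ← prod_nthRoots hm0 hξ (fun η => 1 - η * z ^ d)]
  have h4 := hξ.pow_sub_pow_eq_prod_sub_mul (1 : ℂ) (z ^ d) hm0
  rw [← h4, one_pow, ← pow_mul]
  congr 3
  rw [mul_assoc, mul_comm e d, ← mul_assoc, Nat.mul_div_cancel _ he0, mul_comm]

end K663.NthRoots
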