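import Groth.Agent.FunFld.K663.AlgC
import Groth.Agent.FunFld.K659.DegZeros
import Groth.Prelude.Def_W4bk4goldsch45p2

/-!
# Gap sequences and weights of places; the hyperelliptic dichotomy
-/

set_option autoImplicit false
open WithZero FunFld

namespace K663.Weier

section Comb

/-- number of elements of `G` below `m` -/
def rk (G : Finset ℕ) (m : ℕ) : ℕ := (G.filter (· < m)).card

theorem sum_rk (G : Finset ℕ) : ∑ m ∈ G, rk G m = ∑ r ∈ Finset.range G.card, r := by
  induction G using Finset.induction_on_max with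
  | empty => simp
  | insert a s hs ih =>
    have ha : a ∉ s := fun h => lt_irrefl _ (hs a h)
    rw [Finset.sum_insert ha, Finset.card_insert_of_notMem ha, Finset.sum_range_succ, ← ih, add_comm]
    congr 1
    · refine Finset.sum_congr rfl fun m hm => ?_
      unfold rk
      rw [Finset.filter_insert, if_neg (by have := hs m hm; omega)]
    · unfold rk
      rw [Finset.filter_insert, if_neg (lt_irrefl a), Finset.filter_true_of_mem (fun m hm => hs m hm)]

theorem sum_range_int (n : ℕ) : 2 * ∑ r ∈ Finset.range n, (r : ℤ) = n * (n - 1) := by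
  induction n with
  | zero => simp
  | succ n ih => rw [Finset.sum_range_succ, mul_add, ih]; push_cast; ring

theorem sum_rk_int (G : Finset ℕ) : 2 * ∑ m ∈ G, (rk G m : ℤ) = G.card * (G.card - 1) := by
  rw [← sum_range_int, ← Nat.cast_sum, sum_rk, Nat.cast_sum]

/-- an element of rank `r` for each `r < |G|` -/
theorem exists_rk (G : Finset ℕ) (r : ℕ) (hr : r < G.card) : ∃ m ∈ G, rk G m = r := by
  induction G using Finset.induction_on_max with
  | empty => simp at hr
  | insert a s hs ih =>
    have ha : a ∉ s := fun h => lt_irrefl _ (hs a h)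
    rw [Finset.card_insert_of_notMem ha] at hr
    by_cases h : r < s.card
    · obtain ⟨m, hm, hm'⟩ := ih h
      refine ⟨m, Finset.mem_insert_of_mem hm, ?_⟩
      unfold rk at hm' ⊢
      rw [Finset.filter_insert, if_neg (by have := hs m hm; omega), hm']
    · refine ⟨a, Finset.mem_insert_self a s, ?_⟩
      unfold rk
      rw [Finset.filter_insert, if_neg (lt_irrefl a), Finset.filter_true_of_mem (fun m hm => hs m hm)]
      omega

end Comb

open K660.Ord K660.Places K660.Compare K660.Weil K660.LowGenus K663.Gaps K663.AlgC K659.DegZeros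

variable {k K : Type*} [Field k] [Field K] [Algebra k K]

open scoped Classical in
/-- the set of gap numbers at `P` -/
noncomputable def gaps (P : Place k K) : Finset ℕ :=
  (Finset.Ico 1 (2 * genus k K)).filter fun m : ℕ => ¬ IsPoleNumber P m

/-- the weight of a place -/
noncomputable def wt (P : Place k K) : ℤ := ∑ m ∈ gaps P, ((m : ℤ) - rk (gaps P) m - 1)

variable [IsAlgClosed k]

theorem isPoleNumber_of_ge (hK : IsFunctionField k K) (P : Place k K) (m : ℤ)
    (hm : 2 * (genus k K : ℤ) ≤ m) : IsPoleNumber P m := by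
  by_contra h
  have h1 := ell_single_gap P _ h
  have h2 := ell_eq_of_deg_ge hK (D := Finsupp.single P m) (by
    rw [K663.AlgC.deg_single, place_deg_one hK]; omega)
  have h3 := ell_eq_of_deg_ge hK (D := Finsupp.single P (m - 1)) (by
    rw [K663.AlgC.deg_single, place_deg_one hK]; push_cast; omega)
  rw [K663.AlgC.deg_single, place_deg_one hK] at h2 h3
  rw [h1] at h2
  omega

theorem mem_gaps (hK : IsFunctionField k K) (P : Place k K) (m : ℕ) :
    m ∈ gaps P ↔ 1 ≤ m ∧ ¬ IsPoleNumber P m := by
  classical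
  unfold gaps
  rw [Finset.mem_filter, Finset.mem_Ico]
  constructor
  · rintro ⟨⟨h1, -⟩, h2⟩
    exact ⟨h1, h2⟩
  · rintro ⟨h1, h2⟩
    refine ⟨⟨h1, ?_⟩, h2⟩
    by_contra h3
    exact h2 (isPoleNumber_of_ge hK P m (by omega))

theorem card_gaps (hK : IsFunctionField k K) (P : Place k K) : (gaps P).card = genus k K := by
  classical
  rcases Nat.eq_zero_or_pos (genus k K) with hg | hg
  · unfold gaps
    rw [hg]
    simp
  · have h1 := ell_single_eq hK P (2 * genus k K - 1)
    have h2 := ell_eq_of_deg_ge hK (D := Finsupp.single P ((2 * genus k K - 1 : ℕ) : ℤ)) (by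
      rw [K663.AlgC.deg_single, place_deg_one hK]; omega)
    rw [K663.AlgC.deg_single, place_deg_one hK] at h2
    have h3 := Finset.card_filter_add_card_filter_not (s := Finset.Ico 1 (2 * genus k K))
      (fun m : ℕ => IsPoleNumber P m)
    rw [Nat.card_Ico] at h3
    rw [show 2 * genus k K - 1 + 1 = 2 * genus k K by omega] at h1
    unfold gaps
    omega

theorem rk_bound (hK : IsFunctionField k K) (P : Place k K) {m : ℕ} (hm : m ∈ gaps P) :
    m ≤ 2 * rk (gaps P) m + 1 := by
  classical
  rw [mem_gaps hK] at hm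
  have h1 := half_gaps P m hm.2
  have hG : {m' : ℕ | 1 ≤ m' ∧ m' < m ∧ ¬ IsPoleNumber P m'} =
      ((gaps P).filter fun m' : ℕ => m' < m : Finset ℕ) := by
    ext a
    simp only [Set.mem_ofPred_eq, Finset.coe_filter, mem_gaps hK]
    tauto
  rw [hG, Set.ncard_coe_finset] at h1
  unfold rk
  omega

theorem rk_lower (hK : IsFunctionField k K) (P : Place k K) {m : ℕ} (hm : m ∈ gaps P) :
    rk (gaps P) m + 1 ≤ m := by
  classical
  have h1 : (gaps P).filter (· < m) ⊆ Finset.Ico 1 m := by
    intro a ha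
    rw [Finset.mem_filter, mem_gaps hK] at ha
    rw [Finset.mem_Ico]
    exact ⟨ha.1.1, ha.2⟩
  have h2 := Finset.card_le_card h1
  rw [Nat.card_Ico] at h2
  rw [mem_gaps hK] at hm
  unfold rk
  omega

theorem wt_nonneg (hK : IsFunctionField k K) (P : Place k K) : 0 ≤ wt P := by
  refine Finset.sum_nonneg fun m hm => ?_
  have := rk_lower hK P hm
  omega

theorem wt_le (hK : IsFunctionField k K) (P : Place k K) :
    2 * wt P ≤ genus k K * (genus k K - 1) := by
  have h1 : wt P ≤ ∑ m ∈ gaps P, (rk (gaps P) m : ℤ) := by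
    refine Finset.sum_le_sum fun m hm => ?_
    have := rk_bound hK P hm
    omega
  have h2 := sum_rk_int (gaps P)
  rw [card_gaps hK] at h2
  omega

theorem one_mem_gaps (hK : IsFunctionField k K) (hg : 0 < genus k K) (P : Place k K) :
    1 ∈ gaps P := by
  obtain ⟨m, hm, hm'⟩ := exists_rk (gaps P) 0 (by rw [card_gaps hK]; exact hg)
  have h1 := rk_bound hK P hm
  have h2 := rk_lower hK P hm
  have : m = 1 := by omega
  rwa [← this]

theorem two_pole_of_wt_eq (hK : IsFunctionField k K) (hg : 1 < genus k K) (P : Place k K)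
    (h : 2 * wt P = genus k K * (genus k K - 1)) : IsPoleNumber P 2 := by
  have h2 := sum_rk_int (gaps P)
  rw [card_gaps hK, ← h] at h2
  have h3 : wt P = ∑ m ∈ gaps P, (rk (gaps P) m : ℤ) := by omega
  unfold wt at h3
  rw [Finset.sum_eq_sum_iff_of_le (fun m hm => by have := rk_bound hK P hm; omega)] at h3
  obtain ⟨m, hm, hm'⟩ := exists_rk (gaps P) 1 (by rw [card_gaps hK]; exact hg)
  have h4 := h3 m hm
  rw [hm'] at h4
  have h5 : m = 3 := by omega
  subst h5
  by_contra hcon
  have h6 : 2 ∈ gaps P := (mem_gaps hK P 2).2 ⟨by norm_num, hcon⟩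
  have h7 := one_mem_gaps hK (by omega) P
  have h8 : ({1, 2} : Finset ℕ) ⊆ (gaps P).filter (· < 3) := by
    intro a ha
    rw [Finset.mem_insert, Finset.mem_singleton] at ha
    rw [Finset.mem_filter]
    rcases ha with rfl | rfl
    · exact ⟨h7, by norm_num⟩
    · exact ⟨h6, by norm_num⟩
  have h9 := Finset.card_le_card h8
  unfold rk at hm'
  rw [hm'] at h9
  simp at h9

theorem two_not_pole_of_wt_eq_zero (hK : IsFunctionField k K) (hg : 1 < genus k K) (P : Place k K)
    (h : wt P = 0) : ¬ IsPoleNumber P 2 := by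
  unfold wt at h
  rw [Finset.sum_eq_zero_iff_of_nonneg (fun m hm => by have := rk_lower hK P hm; omega)] at h
  obtain ⟨m, hm, hm'⟩ := exists_rk (gaps P) 1 (by rw [card_gaps hK]; exact hg)
  have h4 := h m hm
  rw [hm'] at h4
  have h5 : m = 2 := by omega
  subst h5
  exact ((mem_gaps hK P 2).1 hm).2

omit [IsAlgClosed k] in
theorem even_pole {P : Place k K} (h : IsPoleNumber P 2) (n : ℕ) : IsPoleNumber P (2 * (n + 1)) := by
  induction n with
  | zero => simpa using h
  | succ n ih =>
    have := ih.add h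
    have h2 : (2 : ℤ) * ((n : ℤ) + 1) + 2 = 2 * (((n + 1 : ℕ) : ℤ) + 1) := by push_cast; ring
    rwa [h2] at this

theorem wt_of_two_pole (hK : IsFunctionField k K) (P : Place k K)
    (h : IsPoleNumber P 2) : 2 * wt P = genus k K * (genus k K - 1) := by
  classical
  have hsub : gaps P ⊆ (Finset.range (genus k K)).image fun r => 2 * r + 1 := by
    intro m hm
    have h1 := (mem_gaps hK P m).1 hm
    have h2 : m < 2 * genus k K := by
      unfold gaps at hm
      rw [Finset.mem_filter, Finset.mem_Ico] at hm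
      exact hm.1.2
    rw [Finset.mem_image]
    rcases Nat.even_or_odd' m with ⟨r, hr | hr⟩
    · exfalso
      apply h1.2
      have h3 : 1 ≤ r := by omega
      have := even_pole h (r - 1)
      have h4 : (2 : ℤ) * (((r - 1 : ℕ) : ℤ) + 1) = m := by omega
      rwa [h4] at this
    · exact ⟨r, Finset.mem_range.2 (by omega), hr.symm⟩
  have hinj : Function.Injective fun r : ℕ => 2 * r + 1 := fun a b hab => by
    simp only at hab
    omega
  have heq : gaps P = (Finset.range (genus k K)).image fun r => 2 * r + 1 := by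
    apply Finset.eq_of_subset_of_card_le hsub
    rw [card_gaps hK, Finset.card_image_of_injective _ hinj, Finset.card_range]
  have h1 : wt P = ∑ m ∈ gaps P, (rk (gaps P) m : ℤ) := by
    refine Finset.sum_congr rfl fun m hm => ?_
    have h2 := rk_bound hK P hm
    have h3 : rk (gaps P) m * 2 + 1 ≤ m := by
      rw [heq, Finset.mem_image] at hm
      obtain ⟨r, hr, rfl⟩ := hm
      have h4 : (gaps P).filter (· < 2 * r + 1) ⊆ (Finset.range r).image fun r => 2 * r + 1 := by
        intro a ha
        rw [heq, Finset.mem_filter, Finset.mem_image] at ha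
        obtain ⟨⟨b, hb, rfl⟩, hb'⟩ := ha
        exact Finset.mem_image.2 ⟨b, Finset.mem_range.2 (by omega), rfl⟩
      have h5 := Finset.card_le_card h4
      rw [Finset.card_image_of_injective _ hinj, Finset.card_range] at h5
      unfold rk
      omega
    omega
  rw [h1, sum_rk_int, card_gaps hK]

/-- if `ℓ(gP) = 1` the weight vanishes -/
theorem wt_eq_zero (hK : IsFunctionField k K) (P : Place k K)
    (h : ∀ m : ℕ, 1 ≤ m → m ≤ genus k K → ¬ IsPoleNumber P m) : wt P = 0 := by
  classical
  have hsub : Finset.Icc 1 (genus k K) ⊆ gaps P := by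
    intro m hm
    rw [Finset.mem_Icc] at hm
    rw [mem_gaps hK]
    exact ⟨hm.1, h m hm.1 hm.2⟩
  have heq : Finset.Icc 1 (genus k K) = gaps P := by
    apply Finset.eq_of_subset_of_card_le hsub
    rw [card_gaps hK, Nat.card_Icc]
    omega
  refine Finset.sum_eq_zero fun m hm => ?_
  have h2 : (gaps P).filter (· < m) = Finset.Ico 1 m := by
    ext a
    rw [← heq, Finset.mem_filter, Finset.mem_Icc, Finset.mem_Ico]
    rw [← heq, Finset.mem_Icc] at hm
    omega
  rw [← heq, Finset.mem_Icc] at hm
  unfold rk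
  rw [h2, Nat.card_Ico]
  omega

theorem not_pole_of_ell_le (hK : IsFunctionField k K) (P : Place k K) (m : ℤ)
    (h : ell (Finsupp.single P m : Divisor k K) ≤ ell (Finsupp.single P (m - 1) : Divisor k K)) :
    ¬ IsPoleNumber P m := by
  intro h1
  have := ell_single_pole hK P m h1
  omega

/-- the divisor of a function with two simple poles -/
theorem gaps_of_two_simple_poles (hK : IsFunctionField k K) (hg : 1 < genus k K) {P P' : Place k K}
    (hne : P ≠ P') {u : K} (hP : P.1 u = exp 1) (hP' : P'.1 u = exp 1)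
    (hu : ∀ Q : Place k K, Q ≠ P → Q ≠ P' → Q.1 u ≤ 1) :
    ∀ m : ℕ, 1 ≤ m → m ≤ genus k K → ¬ IsPoleNumber P m := by
  classical
  have hu0 : u ≠ 0 := ne_zero_of_val P hP
  have htr : Transcendental k u := transcendental_of_ord_ne_zero P (by
    rw [ord_eq_of_val P hP]; norm_num)
  set g := genus k K with hgdef
  obtain ⟨d, hd⟩ : ∃ d : ℕ, g = d + 1 := ⟨g - 1, by omega⟩
  set D : Divisor k K := Finsupp.single P (d : ℤ) + Finsupp.single P' (d : ℤ) with hD
  have hDP : D P = d := by
    rw [hD, Finsupp.add_apply, Finsupp.single_eq_same, Finsupp.single_eq_of_ne hne, add_zero]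
  have hDP' : D P' = d := by
    rw [hD, Finsupp.add_apply, Finsupp.single_eq_same, Finsupp.single_eq_of_ne (Ne.symm hne), zero_add]
  have hDQ : ∀ Q, Q ≠ P → Q ≠ P' → D Q = 0 := by
    intro Q h1 h2
    rw [hD, Finsupp.add_apply, Finsupp.single_eq_of_ne h1, Finsupp.single_eq_of_ne h2, add_zero]
  have hdeg : D.deg = 2 * (g : ℤ) - 2 := by
    rw [hD, deg_add, K663.AlgC.deg_single, K663.AlgC.deg_single, place_deg_one hK,
      place_deg_one hK, hd]
    push_cast
    ring
  have hpow : ∀ (Q : Place k K) (i : ℕ), Q.1 u = exp 1 → Q.1 (u ^ i) = exp (i : ℤ) := by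
    intro Q i h
    rw [map_pow, h, ← exp_nsmul]
    simp
  have hmem : ∀ i : ℕ, i ≤ d → u ^ i ∈ L D := by
    intro i hi Q
    by_cases h1 : Q = P
    · rw [h1, hDP, hpow P i hP, exp_le_exp]
      exact_mod_cast hi
    · by_cases h2 : Q = P'
      · rw [h2, hDP', hpow P' i hP', exp_le_exp]
        exact_mod_cast hi
      · rw [hDQ Q h1 h2, exp_zero, map_pow]
        exact pow_le_one' (hu Q h1 h2) i
  have hfin := finite_L hK D
  have hell : g ≤ ell D := by
    have hli := linearIndependent_pow htr d
    let v : Fin (d + 1) → L D := fun i => ⟨u ^ (i : ℕ), hmem i (by omega)⟩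
    have hv : LinearIndependent k v := by
      apply LinearIndependent.of_comp (L D).subtype
      exact hli
    have h1 := hv.fintype_card_le_finrank
    rw [Fintype.card_fin] at h1
    rw [hd]
    exact h1
  have hcan : IsCanonical k K D := by
    obtain ⟨W, hW⟩ := exists_isCanonical hK
    obtain ⟨h3, h4⟩ := deg_ell_of_isCanonical hK hW
    have h5 := riemann_roch hK hW D
    rw [hdeg] at h5
    have h6 : ell (W - D) ≠ 0 := by omega
    obtain ⟨x, hx0, hx⟩ := exists_eq_neg_div hK (D := W - D) (by rw [deg_sub, h4, hdeg, sub_self]) h6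
    have h7 : D = W + div k x := by
      have := sub_eq_iff_eq_add.1 hx
      rw [this]
      abel
    rw [h7]
    exact isCanonical_add_div hK hW hx0
  intro m hm1 hm2
  apply not_pole_of_ell_le hK
  have h1 := riemann_roch hK hcan (Finsupp.single P (m : ℤ))
  have h2 := riemann_roch hK hcan (Finsupp.single P ((m : ℤ) - 1))
  rw [K663.AlgC.deg_single, place_deg_one hK] at h1 h2
  have h3 : ell (D - Finsupp.single P (m : ℤ)) < ell (D - Finsupp.single P ((m : ℤ) - 1)) := by
    have hfin2 := finite_L hK (D - Finsupp.single P ((m : ℤ) - 1))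
    apply Submodule.finrank_lt_finrank_of_lt
    refine lt_of_le_of_ne (Gaps.L_mono (sub_le_sub_left (single_le_single P (by omega)) D)) ?_
    intro heq
    obtain ⟨i, hi⟩ : ∃ i : ℕ, i + m = g := ⟨g - m, by omega⟩
    have h4 : u ^ i ∈ L (D - Finsupp.single P ((m : ℤ) - 1)) := by
      intro Q
      rw [Finsupp.sub_apply]
      by_cases h1 : Q = P
      · rw [h1, hDP, hpow P i hP, exp_le_exp, Finsupp.single_eq_same]
        omega
      · rw [Finsupp.single_eq_of_ne h1, sub_zero]
        exact hmem i (by omega) Q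
    rw [← heq] at h4
    have h5 := h4 P
    rw [Finsupp.sub_apply, Finsupp.single_eq_same, hDP, hpow P i hP, exp_le_exp] at h5
    omega
  push_cast at h1 h2
  omega

/-- the places of a hyperelliptic field: ramified or of weight zero -/
theorem fibre_cases (hK : IsFunctionField k K) (hg : 1 < genus k K) {P₀ : Place k K} {x : K}
    (hx : P₀.1 x = exp 2) (hx' : ∀ Q : Place k K, Q ≠ P₀ → Q.1 x ≤ 1) (P : Place k K) (hP : P ≠ P₀) :
    wt P = 0 ∨ ∃ c : k, P.1 (x - algebraMap k K c) = exp (-2) ∧
      ∀ Q : Place k K, Q ≠ P → Q ≠ P₀ → Q.1 (x - algebraMap k K c) = 1 := by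
  classical
  obtain ⟨c, hc⟩ := exists_const hK P (hx' P hP)
  set y := x - algebraMap k K c with hy
  have hyP₀ : P₀.1 y = exp 2 := by
    rw [hy, ← hx]
    apply Valuation.map_sub_eq_of_lt_left
    rw [hx]
    refine lt_of_le_of_lt (P₀.2.1 c) ?_
    rw [← exp_zero, exp_lt_exp]
    norm_num
  have hy' : ∀ Q : Place k K, Q ≠ P₀ → Q.1 y ≤ 1 := fun Q hQ =>
    (Q.1.map_sub _ _).trans (max_le (hx' Q hQ) (Q.2.1 c))
  have hy0 : y ≠ 0 := ne_zero_of_val P₀ hyP₀
  have hdeg0 : (div k y).deg = 0 := deg_div hK y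
  have hordP₀ : div k y P₀ = -2 := by rw [div_apply hK, ord_eq_of_val P₀ hyP₀]
  have hordQ : ∀ Q : Place k K, Q ≠ P₀ → 0 ≤ div k y Q := fun Q hQ => by
    rw [div_apply hK]
    exact (val_le_one_iff Q hy0).1 (hy' Q hQ)
  have hordP : 1 ≤ div k y P := by
    rw [div_apply hK]
    have := (val_lt_one_iff P hy0).1 hc
    omega
  set E : Divisor k K := div k y + Finsupp.single P₀ 2 - Finsupp.single P 1 with hE
  have hEdeg : E.deg = 1 := by
    rw [hE, deg_sub, deg_add, hdeg0, K663.AlgC.deg_single, K663.AlgC.deg_single, place_deg_one hK,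
      place_deg_one hK]
    norm_num
  have hEP₀ : E P₀ = 0 := by
    rw [hE, Finsupp.sub_apply, Finsupp.add_apply, hordP₀, Finsupp.single_eq_same,
      Finsupp.single_eq_of_ne (Ne.symm hP)]
    norm_num
  have hEP : E P = div k y P - 1 := by
    rw [hE, Finsupp.sub_apply, Finsupp.add_apply, Finsupp.single_eq_same,
      Finsupp.single_eq_of_ne hP, add_zero]
  have hEQ : ∀ Q : Place k K, Q ≠ P → Q ≠ P₀ → E Q = div k y Q := by
    intro Q h1 h2
    rw [hE, Finsupp.sub_apply, Finsupp.add_apply, Finsupp.single_eq_of_ne h1,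
      Finsupp.single_eq_of_ne h2, add_zero, sub_zero]
  have hE0 : 0 ≤ E := by
    intro Q
    rw [Finsupp.coe_zero, Pi.zero_apply]
    by_cases h1 : Q = P
    · rw [h1, hEP]; omega
    · by_cases h2 : Q = P₀
      · rw [h2, hEP₀]
      · rw [hEQ Q h1 h2]; exact hordQ Q h2
  obtain ⟨P', -, hP'⟩ := eq_single_of_deg_eq_one hK hE0 hEdeg
  by_cases hPP' : P = P'
  · right
    subst hPP'
    have h1 : div k y P = 2 := by
      have := hEP
      rw [hP', Finsupp.single_eq_same] at this
      omega
    refine ⟨c, ?_, fun Q h2 h3 => ?_⟩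
    · rw [← hy, val_eq_exp_div hK hy0, h1]
    · have h4 := hEQ Q h2 h3
      rw [hP', Finsupp.single_eq_of_ne h2] at h4
      rw [← hy, val_eq_exp_div hK hy0, ← h4, neg_zero, exp_zero]
  · left
    have hP'P₀ : P' ≠ P₀ := by
      rintro rfl
      rw [hP', Finsupp.single_eq_same] at hEP₀
      norm_num at hEP₀
    have h1 : div k y P = 1 := by
      have := hEP
      rw [hP', Finsupp.single_eq_of_ne hPP'] at this
      omega
    have h2 : div k y P' = 1 := by
      have := hEQ P' (Ne.symm hPP') hP'P₀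
      rw [hP', Finsupp.single_eq_same] at this
      omega
    apply wt_eq_zero hK
    refine gaps_of_two_simple_poles hK hg (P' := P') (u := y⁻¹) hPP' ?_ ?_ ?_
    · rw [val_eq_exp_div hK (inv_ne_zero hy0), div_inv hK, Finsupp.neg_apply, h1]; norm_num
    · rw [val_eq_exp_div hK (inv_ne_zero hy0), div_inv hK, Finsupp.neg_apply, h2]; norm_num
    · intro Q h3 h4
      rw [val_eq_exp_div hK (inv_ne_zero hy0), div_inv hK, Finsupp.neg_apply, ← exp_zero,
        exp_le_exp, neg_neg]
      by_cases h5 : Q = P₀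
      · rw [h5, hordP₀]; norm_num
      · rw [← hEQ Q h3 h5, hP', Finsupp.single_eq_of_ne h4]

/-- The weight in terms of an enumeration of the orders `j` with `j + 1` a gap. -/
theorem sum_orders_eq_wt (hK : IsFunctionField k K) {n : ℕ} (hn : n + 1 = genus k K)
    (P : Place k K) (J' : Fin n → ℕ) (hJ' : StrictMono J')
    (h : ∀ j : ℕ, j ∈ Set.range J' ↔ (1 ≤ j ∧ ¬ IsPoleNumber P ((j : ℤ) + 1))) :
    ∑ l, ((J' l : ℤ) - ((l : ℕ) + 1)) = wt P := by
  classical
  have h1 : gaps P = insert 1 (Finset.univ.image fun l => J' l + 1) := by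
    ext m
    rw [mem_gaps hK, Finset.mem_insert, Finset.mem_image]
    constructor
    · rintro ⟨h2, h3⟩
      rcases eq_or_ne m 1 with h4 | h4
      · exact Or.inl h4
      · right
        obtain ⟨l, hl⟩ := (h (m - 1)).2 ⟨by omega, by
          have : ((m - 1 : ℕ) : ℤ) + 1 = m := by omega
          rwa [this]⟩
        exact ⟨l, Finset.mem_univ l, by omega⟩
    · rintro (rfl | ⟨l, -, rfl⟩)
      · have := one_mem_gaps hK (by omega) P
        rwa [mem_gaps hK] at this
      · obtain ⟨h2, h3⟩ := (h (J' l)).1 ⟨l, rfl⟩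
        refine ⟨by omega, ?_⟩
        push_cast
        exact h3
  have hinj : Function.Injective fun l => J' l + 1 := fun a b hab => hJ'.injective (by
    simpa using hab)
  have hnot : (1 : ℕ) ∉ (Finset.univ.image fun l => J' l + 1) := by
    rw [Finset.mem_image]
    rintro ⟨l, -, hl⟩
    have := ((h (J' l)).1 ⟨l, rfl⟩).1
    omega
  have h2 : ∑ m ∈ gaps P, (m : ℤ) = 1 + ∑ l, ((J' l : ℤ) + 1) := by
    rw [h1, Finset.sum_insert hnot, Finset.sum_image (fun a _ b _ hab => hinj hab)]
    push_cast
    rfl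
  have h3 := sum_rk_int (gaps P)
  rw [card_gaps hK, ← hn] at h3
  have h4 : 2 * ∑ l : Fin n, ((l : ℕ) : ℤ) = n * (n - 1) := by
    rw [Fin.sum_univ_eq_sum_range (fun i => (i : ℤ)), sum_range_int]
  unfold wt
  simp only [Finset.sum_sub_distrib, Finset.sum_add_distrib]
  rw [h2]
  simp only [Finset.sum_add_distrib, Finset.sum_const, Finset.card_univ, Fintype.card_fin,
    nsmul_eq_mul, mul_one, card_gaps hK, ← hn]
  push_cast at h3 ⊢
  have h5 : 2 * ∑ m ∈ gaps P, (rk (gaps P) m : ℤ) = n * (n + 1) := by rw [h3]; ring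
  have h6 : ∑ m ∈ gaps P, (rk (gaps P) m : ℤ) = ∑ l : Fin n, ((l : ℕ) : ℤ) + n := by
    have : 2 * ∑ m ∈ gaps P, (rk (gaps P) m : ℤ) = 2 * (∑ l : Fin n, ((l : ℕ) : ℤ) + n) := by
      rw [h5]
      linear_combination -h4
    omega
  rw [h6]
  ring

section Auto

omit [IsAlgClosed k] in
theorem comapPlace_one (P : Place k K) : comapPlace (1 : K ≃ₐ[k] K) P = P := by
  apply Subtype.ext
  ext y
  rw [comapPlace_apply]
  rfl

omit [IsAlgClosed k] in
theorem comapPlace_mul (σ τ : K ≃ₐ[k] K) (P : Place k K) :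
    comapPlace (σ * τ) P = comapPlace τ (comapPlace σ P) := by
  apply Subtype.ext
  ext y
  rw [comapPlace_apply, comapPlace_apply, comapPlace_apply]
  rfl

omit [IsAlgClosed k] in
theorem comapPlace_injective (σ : K ≃ₐ[k] K) :
    Function.Injective (comapPlace σ : Place k K → Place k K) := by
  intro P Q h
  have h1 := congrArg (comapPlace σ⁻¹) h
  rwa [← comapPlace_mul, ← comapPlace_mul, mul_inv_cancel, comapPlace_one, comapPlace_one] at h1

omit [IsAlgClosed k] in
theorem comapPlace_eq_self_iff (σ : K ≃ₐ[k] K) (P : Place k K) :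
    comapPlace σ P = P ↔ ∀ x : K, P.1 x < 1 → P.1 (σ x) < 1 := by
  constructor
  · intro h x hx
    rwa [← comapPlace_apply, h]
  · intro h
    apply place_eq_of_lt
    intro x hx
    rw [comapPlace_apply]
    exact h x hx

omit [IsAlgClosed k] in
theorem isPoleNumber_comapPlace (σ : K ≃ₐ[k] K) (P : Place k K) (n : ℤ) :
    IsPoleNumber (comapPlace σ P) n ↔ IsPoleNumber P n := by
  have key : ∀ (τ : K ≃ₐ[k] K) (Q : Place k K), IsPoleNumber Q n → IsPoleNumber (comapPlace τ Q) n := by
    rintro τ Q ⟨x, hx, hx'⟩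
    refine ⟨τ.symm x, ?_, fun Q' hQ' => ?_⟩
    · rw [comapPlace_apply, AlgEquiv.apply_symm_apply, hx]
    · rw [← comapPlace_apply]
      apply hx'
      intro h
      apply hQ'
      rw [← h, ← comapPlace_mul]
      have : τ.symm * τ = (1 : K ≃ₐ[k] K) := AlgEquiv.ext fun z => τ.symm_apply_apply z
      rw [this, comapPlace_one]
  refine ⟨fun h => ?_, key σ P⟩
  have h1 := key σ⁻¹ _ h
  rwa [← comapPlace_mul, mul_inv_cancel, comapPlace_one] at h1

omit [IsAlgClosed k] in
theorem gaps_comapPlace (σ : K ≃ₐ[k] K) (P : Place k K) : gaps (comapPlace σ P) = gaps P := by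
  classical
  unfold gaps
  refine Finset.filter_congr fun m _ => ?_
  rw [isPoleNumber_comapPlace]

omit [IsAlgClosed k] in
theorem wt_comapPlace (σ : K ≃ₐ[k] K) (P : Place k K) : wt (comapPlace σ P) = wt P := by
  unfold wt
  rw [gaps_comapPlace]

end Auto

omit [IsAlgClosed k] in
theorem isFixedPt_iff (σ : K ≃ₐ[k] K) (P : Place k K) :
    IsFixedPt (σ : K →ₐ[k] K) P ↔ comapPlace σ P = P := by
  rw [comapPlace_eq_self_iff]
  rfl

omit [IsAlgClosed k] in
theorem finrank_eq_two (hK : IsFunctionField k K) [IsAlgClosed k] {P₀ : Place k K} {x : K}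
    (hx : P₀.1 x = exp 2) (hx' : ∀ Q : Place k K, Q ≠ P₀ → Q.1 x ≤ 1) :
    Module.finrank (IntermediateField.adjoin k ({x⁻¹} : Set K)) K = 2 := by
  classical
  have hx0 : x ≠ 0 := ne_zero_of_val P₀ hx
  have htr : Transcendental k x⁻¹ := transcendental_of_ord_ne_zero P₀ (by
    rw [ord_inv, ord_eq_of_val P₀ hx]; norm_num)
  have h1 := deg_zdiv_eq hK htr
  have h2 : zdiv k x⁻¹ = Finsupp.single P₀ 2 := by
    ext Q
    rw [zdiv_apply hK]
    by_cases h : Q = P₀
    · rw [h, Finsupp.single_eq_same, ord_inv, ord_eq_of_val P₀ hx]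
      norm_num
    · rw [Finsupp.single_eq_of_ne h, ord_inv]
      have := (val_le_one_iff Q hx0).1 (hx' Q h)
      omega
  rw [h2, K663.AlgC.deg_single, place_deg_one hK] at h1
  exact_mod_cast h1.symm

/-- The dichotomy for Weierstrass points, given the sum of the weights. -/
theorem dichotomy (hK : IsFunctionField k K) (hg : 1 < genus k K) (W : Finset (Place k K))
    (hW : ∀ P, P ∈ W ↔ wt P ≠ 0)
    (hsum : ∑ P ∈ W, wt P = ((genus k K : ℤ) - 1) * genus k K * (genus k K + 1)) :
    (2 * genus k K + 2 < W.card ∧ ∀ σ : K ≃ₐ[k] K, (∀ P ∈ W, comapPlace σ P = P) → σ = 1) ∨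
    (W.card = 2 * genus k K + 2 ∧ ∃ x : K,
      Module.finrank (IntermediateField.adjoin k ({x} : Set K)) K = 2 ∧
      ∀ σ : K ≃ₐ[k] K, (∀ P ∈ W, comapPlace σ P = P) ↔ σ x = x) := by
  classical
  set g := genus k K with hgdef
  have hg' : (1 : ℤ) < g := by exact_mod_cast hg
  by_cases hR : ∃ P : Place k K, IsPoleNumber P 2
  · right
    obtain ⟨P₀, x, hx, hx'⟩ := hR
    have hP₀ : IsPoleNumber P₀ 2 := ⟨x, hx, hx'⟩
    have hx0 : x ≠ 0 := ne_zero_of_val P₀ hx
    have hcase : ∀ P : Place k K, P ∈ W → P ≠ P₀ → ∃ c : k,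
        P.1 (x - algebraMap k K c) = exp (-2) ∧
        ∀ Q : Place k K, Q ≠ P → Q ≠ P₀ → Q.1 (x - algebraMap k K c) = 1 := by
      intro P hP hPP₀
      rcases fibre_cases hK hg hx hx' P hPP₀ with h | h
      · exact absurd h ((hW P).1 hP)
      · exact h
    have hyP₀ : ∀ c : k, P₀.1 (x - algebraMap k K c) = exp 2 := by
      intro c
      rw [← hx]
      apply Valuation.map_sub_eq_of_lt_left
      rw [hx]
      refine lt_of_le_of_lt (P₀.2.1 c) ?_
      rw [← exp_zero, exp_lt_exp]
      norm_num
    have htwo : ∀ P ∈ W, IsPoleNumber P 2 := by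
      intro P hP
      by_cases h : P = P₀
      · rw [h]; exact hP₀
      · obtain ⟨c, hc, hc'⟩ := hcase P hP h
        refine ⟨(x - algebraMap k K c)⁻¹, ?_, fun Q hQ => ?_⟩
        · rw [map_inv₀, hc, ← exp_neg]
          norm_num
        · rw [map_inv₀]
          by_cases h2 : Q = P₀
          · rw [h2, hyP₀, ← exp_neg, ← exp_zero, exp_le_exp]
            norm_num
          · rw [hc' Q hQ h2, inv_one]
    have hwt : ∀ P ∈ W, 2 * wt P = (g : ℤ) * (g - 1) := fun P hP => wt_of_two_pole hK P (htwo P hP)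
    have hcard : W.card = 2 * g + 2 := by
      have h1 : 2 * ∑ P ∈ W, wt P = W.card * ((g : ℤ) * (g - 1)) := by
        rw [Finset.mul_sum, Finset.sum_congr rfl hwt, Finset.sum_const, nsmul_eq_mul]
      rw [hsum] at h1
      have h2 : ((g : ℤ) * (g - 1)) * (2 * (g + 1)) = ((g : ℤ) * (g - 1)) * W.card := by
        rw [mul_comm ((g : ℤ) * (g - 1)) (W.card : ℤ), ← h1]
        ring
      have h3 : (g : ℤ) * (g - 1) ≠ 0 := by
        apply mul_ne_zero <;> omega
      have h4 := mul_left_cancel₀ h3 h2
      omega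
    have hP₀W : P₀ ∈ W := by
      rw [hW]
      intro h
      exact two_not_pole_of_wt_eq_zero hK hg P₀ h hP₀
    refine ⟨hcard, x⁻¹, finrank_eq_two hK hx hx', fun σ => ?_⟩
    have hinv : σ x⁻¹ = x⁻¹ ↔ σ x = x := by
      rw [map_inv₀, inv_inj]
    rw [hinv]
    constructor
    · intro hσ
      -- `σ x = a x + b`
      have hσx : P₀.1 (σ x) = exp 2 := by
        rw [← comapPlace_apply, hσ P₀ hP₀W, hx]
      have hσx' : ∀ Q : Place k K, Q ≠ P₀ → Q.1 (σ x) ≤ 1 := by
        intro Q hQ
        rw [← comapPlace_apply]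
        apply hx'
        intro h
        apply hQ
        apply comapPlace_injective σ
        rw [h, hσ P₀ hP₀W]
      obtain ⟨a, ha⟩ := exists_const hK P₀ (x := σ x / x) (by
        rw [map_div₀, hσx, hx, div_self exp_ne_zero])
      have h1 : P₀.1 (σ x - algebraMap k K a * x) < exp 2 := by
        have h2 : σ x - algebraMap k K a * x = (σ x / x - algebraMap k K a) * x := by
          rw [sub_mul, div_mul_cancel₀ _ hx0]
        rw [h2, map_mul, hx]
        calc P₀.1 (σ x / x - algebraMap k K a) * exp 2 < 1 * exp 2 := by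
              gcongr
              exact exp_pos
          _ = exp 2 := one_mul _
      have h2 : ∃ b : k, σ x - algebraMap k K a * x = algebraMap k K b := by
        by_contra hcon
        have h3 := genus_eq_zero_of_mem_L_single hK (place_deg_one hK P₀)
          (x := σ x - algebraMap k K a * x) (by
            rw [mem_L_single]
            refine ⟨?_, fun Q hQ => ?_⟩
            · have := lt_exp_iff_le.1 h1
              norm_num at this
              exact this
            · refine (Q.1.map_sub _ _).trans (max_le (hσx' Q hQ) ?_)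
              rw [map_mul]
              exact mul_le_one' (Q.2.1 a) (hx' Q hQ)) (by
            rintro ⟨b, hb⟩
            exact hcon ⟨b, hb.symm⟩)
        omega
      obtain ⟨b, hb⟩ := h2
      -- fixed points
      have hfix : ∀ P ∈ W, ∀ c : k, P.1 (x - algebraMap k K c) < 1 → a * c + b = c := by
        intro P hP c hc
        have h3 : P.1 (σ x - algebraMap k K c) < 1 := by
          have h4 := (comapPlace_eq_self_iff σ P).1 (hσ P hP) _ hc
          rwa [map_sub, AlgEquiv.commutes] at h4
        have h4 : P.1 (algebraMap k K a * (x - algebraMap k K c)) < 1 := by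
          rw [map_mul]
          calc P.1 (algebraMap k K a) * P.1 (x - algebraMap k K c)
              ≤ 1 * P.1 (x - algebraMap k K c) := mul_le_mul_left (P.2.1 a) _
            _ = P.1 (x - algebraMap k K c) := one_mul _
            _ < 1 := hc
        have h5 := P.1.map_sub_lt h3 h4
        have h6 : σ x - algebraMap k K c - algebraMap k K a * (x - algebraMap k K c) =
            algebraMap k K (a * c + b - c) := by
          have : σ x = algebraMap k K a * x + algebraMap k K b := by rw [← hb]; ring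
          rw [this]
          simp only [map_sub, map_add, map_mul]
          ring
        rw [h6] at h5
        by_contra hcon
        rw [val_algebraMap P (sub_ne_zero.2 hcon)] at h5
        exact lt_irrefl _ h5
      -- two further points
      have hcard2 : 1 < (W.erase P₀).card := by
        rw [Finset.card_erase_of_mem hP₀W, hcard]
        omega
      obtain ⟨P₁, hP₁, P₂, hP₂, hP₁₂⟩ := Finset.one_lt_card.1 hcard2
      rw [Finset.mem_erase] at hP₁ hP₂
      obtain ⟨c₁, hc₁, hc₁'⟩ := hcase P₁ hP₁.2 hP₁.1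
      obtain ⟨c₂, hc₂, -⟩ := hcase P₂ hP₂.2 hP₂.1
      have hlt : (exp (-2 : ℤ) : WithZero (Multiplicative ℤ)) < 1 := by
        rw [← exp_zero, exp_lt_exp]; norm_num
      have hcne : c₁ ≠ c₂ := by
        rintro rfl
        have := hc₁' P₂ (Ne.symm hP₁₂) hP₂.1
        rw [hc₂] at this
        exact absurd this hlt.ne
      have e1 := hfix P₁ hP₁.2 c₁ (by rw [hc₁]; exact hlt)
      have e2 := hfix P₂ hP₂.2 c₂ (by rw [hc₂]; exact hlt)
      have ha1 : a = 1 := by
        have h3 : (a - 1) * (c₁ - c₂) = 0 := by linear_combination e1 - e2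
        rcases mul_eq_zero.1 h3 with h4 | h4
        · exact sub_eq_zero.1 h4
        · exact absurd (sub_eq_zero.1 h4) hcne
      have hb0 : b = 0 := by
        rw [ha1] at e1
        linear_combination e1
      rw [ha1, hb0, map_one, one_mul, map_zero, sub_eq_zero] at hb
      exact hb
    · intro hσ P hP
      by_cases h : P = P₀
      · subst h
        by_contra hne
        have h1 := hx' _ hne
        rw [comapPlace_apply, hσ, hx, ← exp_zero, exp_le_exp] at h1
        norm_num at h1
      · obtain ⟨c, hc, hc'⟩ := hcase P hP h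
        by_contra hne
        have h1 : (comapPlace σ P).1 (x - algebraMap k K c) = exp (-2) := by
          rw [comapPlace_apply, map_sub, hσ, AlgEquiv.commutes, hc]
        by_cases h2 : comapPlace σ P = P₀
        · rw [h2, hyP₀, exp_inj] at h1
          norm_num at h1
        · rw [hc' _ hne h2, ← exp_zero, exp_inj] at h1
          norm_num at h1
  · left
    push Not at hR
    have hlt : ∀ P : Place k K, 2 * wt P ≤ (g : ℤ) * (g - 1) - 1 := by
      intro P
      have h1 := wt_le hK P
      rw [← hgdef] at h1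
      have h2 : 2 * wt P ≠ (g : ℤ) * (g - 1) := fun h => hR P (two_pole_of_wt_eq hK hg P h)
      generalize (g : ℤ) * (g - 1) = z at *
      omega
    have hcard : 2 * g + 2 < W.card := by
      have h1 : 2 * ∑ P ∈ W, wt P ≤ W.card * ((g : ℤ) * (g - 1) - 1) := by
        rw [Finset.mul_sum, ← nsmul_eq_mul]
        exact Finset.sum_le_card_nsmul _ _ _ fun P _ => hlt P
      rw [hsum] at h1
      have hpos : (0 : ℤ) < (g : ℤ) * (g - 1) := by
        apply mul_pos <;> omega
      have hne : 0 < W.card := by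
        rw [Finset.card_pos]
        by_contra h
        rw [Finset.not_nonempty_iff_eq_empty] at h
        rw [h, Finset.sum_empty] at hsum
        have : ((g : ℤ) - 1) * g * (g + 1) ≠ 0 := by
          apply mul_ne_zero
          · apply mul_ne_zero <;> omega
          · omega
        exact this hsum.symm
      by_contra hcon
      have h2 : (W.card : ℤ) ≤ 2 * (g + 1) := by omega
      have h3 : (W.card : ℤ) * ((g : ℤ) * (g - 1)) ≤ 2 * (g + 1) * ((g : ℤ) * (g - 1)) :=
        mul_le_mul_of_nonneg_right h2 hpos.le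
      have h4 : (0 : ℤ) < W.card := by exact_mod_cast hne
      nlinarith
    refine ⟨hcard, fun σ hσ => ?_⟩
    by_contra hne
    have := card_fixed_le hK σ hne W fun P hP => (comapPlace_eq_self_iff σ P).1 (hσ P hP)
    omega

omit [IsAlgClosed k] in
theorem finite_fix (x : K) (hx : Module.finrank (IntermediateField.adjoin k ({x} : Set K)) K = 2) :
    {σ : K ≃ₐ[k] K | σ x = x}.Finite := by
  have hfin : FiniteDimensional (IntermediateField.adjoin k ({x} : Set K)) K :=
    FiniteDimensional.of_finrank_pos (by omega)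
  have h1 : Finite (K ≃ₐ[IntermediateField.adjoin k ({x} : Set K)] K) := inferInstance
  have h2 : Finite (IntermediateField.fixingSubgroup (IntermediateField.adjoin k ({x} : Set K))) :=
    Finite.of_equiv _ (IntermediateField.fixingSubgroupEquiv _).symm.toEquiv
  refine Set.Finite.subset (Set.toFinite
    (IntermediateField.fixingSubgroup (IntermediateField.adjoin k ({x} : Set K)) :
      Set (K ≃ₐ[k] K))) ?_
  intro σ hσ
  rw [SetLike.mem_coe, IntermediateField.mem_fixingSubgroup_iff]
  intro y hy
  have h3 : IntermediateField.adjoin k ({x} : Set K) ≤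
      IntermediateField.fixedField (Subgroup.zpowers σ) := by
    rw [IntermediateField.adjoin_simple_le_iff, IntermediateField.mem_fixedField_iff]
    intro f hf
    obtain ⟨n, rfl⟩ := Subgroup.mem_zpowers_iff.1 hf
    have hσ' : ∀ n : ℕ, (σ ^ n) x = x := by
      intro n
      induction n with
      | zero => rfl
      | succ n ih =>
        rw [pow_succ]
        show (σ ^ n) (σ x) = x
        rw [show σ x = x from hσ, ih]
    rcases n with n | n
    · rw [Int.ofNat_eq_natCast, zpow_natCast]
      exact hσ' n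
    · rw [zpow_negSucc]
      apply (σ ^ (n + 1)).injective
      rw [hσ' (n + 1)]
      show ((σ ^ (n + 1)) * (σ ^ (n + 1))⁻¹) x = x
      rw [mul_inv_cancel]
      rfl
  have h4 := h3 hy
  rw [IntermediateField.mem_fixedField_iff] at h4
  exact h4 σ (Subgroup.mem_zpowers σ)

theorem finite_aut (hK : IsFunctionField k K) (hg : 1 < genus k K) (W : Finset (Place k K))
    (hW : ∀ P, P ∈ W ↔ wt P ≠ 0)
    (hsum : ∑ P ∈ W, wt P = ((genus k K : ℤ) - 1) * genus k K * (genus k K + 1)) :
    Finite (K ≃ₐ[k] K) := by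
  classical
  have hker : {σ : K ≃ₐ[k] K | ∀ P ∈ W, comapPlace σ P = P}.Finite := by
    rcases dichotomy hK hg W hW hsum with ⟨-, h⟩ | ⟨-, x, hx, h⟩
    · refine (Set.finite_singleton (1 : K ≃ₐ[k] K)).subset fun σ hσ => ?_
      exact h σ hσ
    · refine (finite_fix x hx).subset fun σ hσ => ?_
      exact (h σ).1 hσ
  have hstab : ∀ (σ : K ≃ₐ[k] K) (P : W), comapPlace σ P.1 ∈ W := by
    intro σ P
    rw [hW, wt_comapPlace, ← hW]
    exact P.2
  let f : (K ≃ₐ[k] K) → (W → W) := fun σ P => ⟨comapPlace σ P.1, hstab σ P⟩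
  rw [← Set.finite_univ_iff]
  refine Set.Finite.of_finite_fibers f (Set.toFinite _) fun φ _ => ?_
  rw [Set.univ_inter]
  by_cases hφ : (f ⁻¹' {φ}).Nonempty
  · obtain ⟨τ, hτ⟩ := hφ
    refine (hker.image fun σ => σ * τ).subset fun σ hσ => ?_
    refine ⟨σ * τ⁻¹, fun P hP => ?_, inv_mul_cancel_right σ τ⟩
    have h1 : comapPlace σ P = comapPlace τ P := by
      have h2 : f σ = f τ := by
        rw [Set.mem_preimage, Set.mem_singleton_iff] at hτ hσ
        rw [hτ, hσ]
      exact congrArg Subtype.val (congrFun h2 ⟨P, hP⟩)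
    rw [comapPlace_mul, h1, ← comapPlace_mul, mul_inv_cancel, comapPlace_one]
  · rw [Set.not_nonempty_iff_eq_empty.1 hφ]
    exact Set.finite_empty

end K663.Weier
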