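import Groth.Agent.FunFld.K663.Weier
import Groth.Agent.S12614
import Groth.Agent.S12615
import Groth.Agent.FunFld.K669.Classical

/-!
# The Weierstrass divisor of the canonical map is the divisor of weights
-/

set_option autoImplicit false
open WithZero FunFld

namespace K663.WeierDiv

open K660.Ord K660.Places K660.Compare K660.Weil K663.Gaps K663.AlgC K663.Weier

variable {k K : Type*} [Field k] [IsAlgClosed k] [Field K] [Algebra k K]

/-- functions of given order in a canonical space correspond to gaps -/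
theorem order_iff_gap (hK : IsFunctionField k K) {C : Divisor k K} (hC : IsCanonical k K C)
    (P : Place k K) (hCP : C P = 0) (j : ℕ) :
    (∃ f ∈ L C, P.1 f = exp (-(j : ℤ))) ↔ ¬ IsPoleNumber P ((j : ℤ) + 1) := by
  have h1 := riemann_roch hK hC (Finsupp.single P (j : ℤ))
  have h2 := riemann_roch hK hC (Finsupp.single P ((j : ℤ) + 1))
  rw [K663.AlgC.deg_single, place_deg_one hK] at h1 h2
  push_cast at h1 h2
  have hle : L (C - Finsupp.single P ((j : ℤ) + 1)) ≤ L (C - Finsupp.single P (j : ℤ)) :=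
    Gaps.L_mono (sub_le_sub_left (single_le_single P (by omega)) C)
  have hmem : ∀ (m : ℤ) (f : K), f ∈ L (C - Finsupp.single P m) ↔
      P.1 f ≤ exp (-m) ∧ ∀ Q : Place k K, Q ≠ P → Q.1 f ≤ exp (C Q) := by
    intro m f
    constructor
    · intro h
      refine ⟨?_, fun Q hQ => ?_⟩
      · have := h P
        rwa [Finsupp.sub_apply, Finsupp.single_eq_same, hCP, zero_sub] at this
      · have := h Q
        rwa [Finsupp.sub_apply, Finsupp.single_eq_of_ne hQ, sub_zero] at this
    · rintro ⟨h1, h2⟩ Q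
      rw [Finsupp.sub_apply]
      by_cases hQ : Q = P
      · rw [hQ, Finsupp.single_eq_same, hCP, zero_sub]; exact h1
      · rw [Finsupp.single_eq_of_ne hQ, sub_zero]; exact h2 Q hQ
  have key : (∃ f ∈ L C, P.1 f = exp (-(j : ℤ))) ↔
      L (C - Finsupp.single P ((j : ℤ) + 1)) ≠ L (C - Finsupp.single P (j : ℤ)) := by
    constructor
    · rintro ⟨f, hf, hfP⟩ h
      have h3 : f ∈ L (C - Finsupp.single P (j : ℤ)) := (hmem _ f).2 ⟨hfP.le, fun Q _ => hf Q⟩
      rw [← h, hmem, hfP, exp_le_exp] at h3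
      omega
    · intro h
      obtain ⟨f, hf, hf'⟩ := SetLike.not_le_iff_exists.1
        (fun h2 => h (le_antisymm hle h2) :
          ¬ L (C - Finsupp.single P (j : ℤ)) ≤ L (C - Finsupp.single P ((j : ℤ) + 1)))
      rw [hmem] at hf hf'
      refine ⟨f, fun Q => ?_, ?_⟩
      · by_cases hQ : Q = P
        · rw [hQ, hCP]
          refine hf.1.trans ?_
          rw [exp_le_exp]
          omega
        · exact hf.2 Q hQ
      · apply le_antisymm hf.1
        by_contra hlt
        rw [not_le, lt_exp_iff_le] at hlt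
        apply hf'
        refine ⟨?_, hf.2⟩
        rwa [show -((j : ℤ) + 1) = -(j : ℤ) - 1 by ring]
  rw [key]
  have hfin := finite_L hK (C - Finsupp.single P (j : ℤ))
  have hs := ell_single_succ_le hK P ((j : ℤ) + 1)
  rw [add_sub_cancel_right] at hs
  constructor
  · intro hne hp
    have h3 : ell (C - Finsupp.single P ((j : ℤ) + 1)) < ell (C - Finsupp.single P (j : ℤ)) :=
      Submodule.finrank_lt_finrank_of_lt (lt_of_le_of_ne hle hne)
    have h4 := ell_single_pole hK P _ hp
    rw [add_sub_cancel_right] at h4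
    omega
  · intro hp heq
    have h3 : ell (C - Finsupp.single P ((j : ℤ) + 1)) = ell (C - Finsupp.single P (j : ℤ)) := by
      unfold ell
      rw [heq]
    have h4 := ell_single_gap P _ hp
    rw [add_sub_cancel_right] at h4
    omega

section Can

variable {n : ℕ} {φ : Fin (n + 1) → K} {C : Divisor k K}

omit [IsAlgClosed k] in
theorem card_eq (hK : IsFunctionField k K) (hC : IsCanonical k K C) (hφ : LinearIndependent k φ)
    (hspan : Submodule.span k (Set.range φ) = L C) : n + 1 = genus k K := by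
  have h1 := finrank_span_eq_card hφ
  rw [hspan, Fintype.card_fin] at h1
  rw [← (deg_ell_of_isCanonical hK hC).1, ← h1]
  rfl

theorem mapDiv_eq (hK : IsFunctionField k K) (hC : IsCanonical k K C) (hφ : LinearIndependent k φ)
    (hspan : Submodule.span k (Set.range φ) = L C) : mapDiv k φ = C := by
  have hg : 0 < genus k K := by rw [← card_eq hK hC hφ hspan]; omega
  have hgood := K669.MapDiv.good_of_linearIndependent hφ
  ext P
  apply le_antisymm
  · rw [K669.MapDiv.mapDiv_le_iff hK hgood, hspan]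
    intro f hf
    exact hf P
  · by_contra hlt
    rw [not_le] at hlt
    have h1 : mapDiv k φ P ≤ C P - 1 := by omega
    rw [K669.MapDiv.mapDiv_le_iff hK hgood, hspan] at h1
    have h2 : L C ≤ L (C - Finsupp.single P 1) := by
      intro f hf Q
      rw [Finsupp.sub_apply]
      by_cases hQ : Q = P
      · rw [hQ, Finsupp.single_eq_same]; exact h1 f hf
      · rw [Finsupp.single_eq_of_ne hQ, sub_zero]; exact hf Q
    have h3 := ell_sub_single_lt hK hg C (Or.inr hC) P
    have hfin := finite_L hK (C - Finsupp.single P 1)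
    have h4 := Submodule.finrank_mono h2
    unfold ell at h3
    omega

omit [IsAlgClosed k] in
theorem span_smul (hK : IsFunctionField k K) (hspan : Submodule.span k (Set.range φ) = L C) {y : K} (hy : y ≠ 0) :
    Submodule.span k (Set.range (y • φ)) = L (C + div k y⁻¹) := by
  have h1 : Submodule.span k (Set.range (y • φ)) =
      (Submodule.span k (Set.range φ)).map (LinearMap.mulLeft k y) := by
    rw [Submodule.map_span, ← Set.range_comp]
    rfl
  rw [h1, hspan]
  ext f
  rw [Submodule.mem_map]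
  constructor
  · rintro ⟨f', hf', rfl⟩ P
    rw [LinearMap.mulLeft_apply, map_mul, Finsupp.add_apply, K660.Compare.div_inv hK,
      Finsupp.neg_apply, val_eq_exp_div hK hy, exp_add, mul_comm]
    exact mul_le_mul_left (hf' P) _
  · intro hf
    refine ⟨y⁻¹ * f, fun P => ?_, ?_⟩
    · have h2 := hf P
      rw [Finsupp.add_apply, exp_add] at h2
      rw [map_mul, val_eq_exp_div hK (inv_ne_zero hy)]
      calc exp (-(div k y⁻¹ P)) * P.1 f ≤ exp (-(div k y⁻¹ P)) * (exp (C P) * exp (div k y⁻¹ P)) :=
            mul_le_mul_right h2 _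
        _ = exp (C P) := by
            rw [mul_left_comm, ← exp_add, neg_add_cancel, exp_zero, mul_one]
    · rw [LinearMap.mulLeft_apply, mul_inv_cancel_left₀ hy]

variable (s : K) (H : K →ₐ[k] PowerSeries K)

theorem orders_eq (hK : IsFunctionField k K) (hC : IsCanonical k K C) (hφ : LinearIndependent k φ)
    (hspan : Submodule.span k (Set.range φ) = L C)
    (hchar : ringChar k = 0 ∨ 2 * genus k K - 2 < ringChar k)
    (hH : LocRes.IsHasseFamily s H) (J : Fin n → ℕ)
    (hJ : IsOrders K (hcol (AlgHom.id k K) H φ) J) : J = fun l : Fin n => (l : ℕ) + 1 := by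
  have hdeg : (mapDiv k φ).deg = 2 * (genus k K : ℤ) - 2 := by
    rw [mapDiv_eq hK hC hφ hspan]
    exact (deg_ell_of_isCanonical hK hC).2
  refine K669.WDivEquiv.isOrders_unique hJ (K669.Classical.classical_id hK hφ ?_ H hH)
  rw [hdeg]
  omega

theorem wDiv_eq_wt (hK : IsFunctionField k K) (hC : IsCanonical k K C) (hφ : LinearIndependent k φ)
    (hspan : Submodule.span k (Set.range φ) = L C)
    (hchar : ringChar k = 0 ∨ 2 * genus k K - 2 < ringChar k)
    (hH : LocRes.IsHasseFamily s H) (J : Fin n → ℕ)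
    (hJ : IsOrders K (hcol (AlgHom.id k K) H φ) J)
    (Φ : Place k K → (K →ₐ[k] LaurentSeries k))
    (hΦ : ∀ P : Place k K, LocRes.IsExpansionAt P.1 (Φ P)) (P : Place k K) :
    wDiv (AlgHom.id k K) H Φ s φ J P = wt P := by
  have hn := card_eq hK hC hφ hspan
  have hdeg : (mapDiv k φ).deg = 2 * (genus k K : ℤ) - 2 := by
    rw [mapDiv_eq hK hC hφ hspan]
    exact (deg_ell_of_isCanonical hK hC).2
  have hchar' : ringChar k = 0 ∨ (mapDiv k φ).deg < ringChar k := by rw [hdeg]; omega
  have hJeq := orders_eq s H hK hC hφ hspan hchar hH J hJ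
  obtain ⟨t, Ht, ht, hHt⟩ := K669.Normalize.exists_parameter hK P H hH
  obtain ⟨y, hy, heff, hnorm, hli⟩ := K669.Normalize.exists_normalization hK hφ P
  obtain ⟨J', hJ'⟩ := K669.Normalize.exists_ordersAt hK P hli heff hnorm ht Ht hHt
  have hle : ∀ l, (J' l : ℤ) ≤ (mapDiv k φ).deg := fun l => by
    rw [← K669.Classical.deg_smul hK hφ hy]
    exact K669.Classical.ordersAt_le_deg hK P hli heff hnorm ht Ht hHt hJ' l
  have h1 : wDiv (AlgHom.id k K) Ht Φ t (y • φ) J = wDiv (AlgHom.id k K) H Φ s φ J := by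
    refine Groth.Agent.S12614.result k K hK φ hφ (AlgHom.id k K) s H hH t Ht hHt J hJ 1
      (by rw [Matrix.det_one]; exact one_ne_zero) y hy (y • φ) (fun i => ?_) Φ hΦ
    rw [Pi.smul_apply, smul_eq_mul]
    congr 1
    simp [Matrix.one_apply]
  have hJt : IsOrders K (hcol (AlgHom.id k K) Ht (y • φ)) J :=
    (K669.Classical.isOrders_iff hK hφ (AlgHom.id k K) H hH Ht hHt hy J).2 hJ
  have h2 := (Groth.Agent.S12615.result k K hK (AlgHom.id k K) P
    (K669.WDivFixed.isFixedPt_id P) (y • φ) hli heff hnorm t ht Ht hHt J hJt J' hJ' Φ hΦ).2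
    (Or.inl rfl)
  have hdet : (binomMat k J' J).det ≠ 0 := by
    rw [hJeq]
    exact K669.BinomDet.det_choose_succ_ne_zero J' (K669.Classical.cast_injective hJ'.1 hle hchar')
      fun i => K669.Classical.cast_ne_zero (K669.Adapted.orders_pos P hHt hJ' i) (hle i) hchar'
  rw [← h1, h2.2 hdet, ← sum_orders_eq_wt hK hn P J' hJ'.1 ?_, hJeq]
  · push_cast
    rfl
  · -- orders and gaps
    have hspan' := span_smul hK hspan hy
    have hC' : IsCanonical k K (C + div k y⁻¹) := isCanonical_add_div hK hC (inv_ne_zero hy)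
    have hCP : (C + div k y⁻¹) P = 0 := by
      rw [← mapDiv_eq hK hC' hli hspan']
      exact K669.MapDiv.mapDiv_eq_zero_of_normalized hK (K669.MapDiv.good_of_linearIndependent hli) P
        heff hnorm
    intro j
    have h3 := K669.Adapted.order_iff hK P (y • φ) heff hnorm ht Ht hHt hJ' j
    rw [hspan', order_iff_gap hK hC' P hCP j] at h3
    constructor
    · rintro ⟨l, rfl⟩
      refine ⟨K669.Adapted.orders_pos P hHt hJ' l, ?_⟩
      rw [← h3]
      exact Or.inr ⟨l, rfl⟩
    · rintro ⟨h4, h5⟩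
      rcases h3.2 h5 with h6 | h6
      · omega
      · exact h6

/-- The sum of the weights, given the degree of the Weierstrass divisor. -/
theorem sum_wt (hK : IsFunctionField k K) (hC : IsCanonical k K C) (hφ : LinearIndependent k φ)
    (hspan : Submodule.span k (Set.range φ) = L C)
    (hchar : ringChar k = 0 ∨ 2 * genus k K - 2 < ringChar k)
    (hH : LocRes.IsHasseFamily s H) (J : Fin n → ℕ)
    (hJ : IsOrders K (hcol (AlgHom.id k K) H φ) J)
    (Φ : Place k K → (K →ₐ[k] LaurentSeries k))
    (hΦ : ∀ P : Place k K, LocRes.IsExpansionAt P.1 (Φ P))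
    (hdegW : (wDiv (AlgHom.id k K) H Φ s φ J).deg =
      ((Module.finrank (AlgHom.id k K).fieldRange K : ℤ) + n) * (mapDiv k φ).deg +
        (2 * (genus k K : ℤ) - 2) * ∑ l, (J l : ℤ)) :
    ∑ P ∈ (wDiv (AlgHom.id k K) H Φ s φ J).support, wt P =
      ((genus k K : ℤ) - 1) * genus k K * (genus k K + 1) := by
  have hn := card_eq hK hC hφ hspan
  have hdeg : (mapDiv k φ).deg = 2 * (genus k K : ℤ) - 2 := by
    rw [mapDiv_eq hK hC hφ hspan]
    exact (deg_ell_of_isCanonical hK hC).2
  have hJeq := orders_eq s H hK hC hφ hspan hchar hH J hJ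
  have h1 : (wDiv (AlgHom.id k K) H Φ s φ J).deg =
      ∑ P ∈ (wDiv (AlgHom.id k K) H Φ s φ J).support, wt P := by
    unfold Divisor.deg Finsupp.sum
    refine Finset.sum_congr rfl fun P _ => ?_
    beta_reduce
    rw [place_deg_one hK, wDiv_eq_wt s H hK hC hφ hspan hchar hH J hJ Φ hΦ P]
    push_cast
    ring
  have h2 : (AlgHom.id k K).fieldRange = ⊤ := by
    rw [eq_top_iff]
    intro x _
    exact ⟨x, rfl⟩
  have h3 : Module.finrank (AlgHom.id k K).fieldRange K = 1 := by
    rw [h2]
    exact IntermediateField.finrank_top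
  have h4 : 2 * ∑ l, (J l : ℤ) = (n : ℤ) * (n + 1) := by
    rw [hJeq]
    have h5 : 2 * ∑ l : Fin n, ((l : ℕ) : ℤ) = n * (n - 1) := by
      rw [Fin.sum_univ_eq_sum_range (fun i => (i : ℤ)), sum_range_int]
    push_cast
    rw [Finset.sum_add_distrib, Finset.sum_const, Finset.card_univ, Fintype.card_fin, nsmul_eq_mul,
      mul_one, mul_add, h5]
    ring
  rw [← h1, hdegW, h3, hdeg, ← hn]
  push_cast
  linear_combination (n : ℤ) * h4

theorem mem_support_iff (hK : IsFunctionField k K) (hC : IsCanonical k K C) (hφ : LinearIndependent k φ)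
    (hspan : Submodule.span k (Set.range φ) = L C)
    (hchar : ringChar k = 0 ∨ 2 * genus k K - 2 < ringChar k)
    (hH : LocRes.IsHasseFamily s H) (J : Fin n → ℕ)
    (hJ : IsOrders K (hcol (AlgHom.id k K) H φ) J)
    (Φ : Place k K → (K →ₐ[k] LaurentSeries k))
    (hΦ : ∀ P : Place k K, LocRes.IsExpansionAt P.1 (Φ P)) (P : Place k K) :
    P ∈ (wDiv (AlgHom.id k K) H Φ s φ J).support ↔ wt P ≠ 0 := by
  rw [Finsupp.mem_support_iff, wDiv_eq_wt s H hK hC hφ hspan hchar hH J hJ Φ hΦ P]

end Can

end K663.WeierDiv
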